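import Mathlib
import Groth.Prelude.Def_GrLC
import Groth.Prelude.Def_Wider
import Groth.Agent.Lib.Helper9.GrLC.Fg
import Groth.Agent.Lib.Helper9.GrLC.Reg
import Groth.Agent.Lib.Helper8.LC15
import Groth.Agent.Lib.Helper6.GSF.GSd

set_option autoImplicit false
set_option linter.unusedSectionVars false
set_option linter.unusedVariables false
set_option linter.unusedSimpArgs false
set_option linter.style.haveILetI false
set_option linter.overlappingInstances false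
set_option maxHeartbeats 800000

/-!
# Graded local cohomology over a graded ring whose degree-zero part need not be Artinian

The long exact sequence in one degree, finiteness of the pieces for modules killed by an ideal `J`
such that Noetherian `R₀`-modules killed by `J` have finite length, additivity.
-/

universe u

namespace Groth.Agent.Lib.Helper6.GSR

open CategoryTheory DirectSum Groth.Agent.Helper9.GrLCLib Groth.Agent.Helper8.LC
open Groth.Agent.Helper9.GrLCLib.Van Groth.Agent.Helper9.GrLCLib.VanZ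
open Groth.Agent.Helper9.GrLCLib.Fg Groth.Agent.Helper9.GrLCLib.FinZ
open Groth.Agent.Lib.Helper6.GSF

variable {R : Type u} [CommRing R] [IsNoetherianRing R] (𝒜 : ℤ → AddSubgroup R) [GradedRing 𝒜]

section Defs

/-- a graded module killed by an ideal -/
def Kill (J : Ideal R) (X : GrLC.GMod.{u} 𝒜) : Prop := ∀ r ∈ J, ∀ m : X.carrier, r • m = 0

/-- Noetherian modules over the degree-zero subring that are killed by `J` have finite length -/
def KillFin (J : Ideal R) : Prop :=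
  ∀ (N : Type u) [AddCommGroup N] [Module (GrLC.deg0 𝒜) N] [IsNoetherian (GrLC.deg0 𝒜) N],
    (∀ r : GrLC.deg0 𝒜, (r : R) ∈ J → ∀ x : N, r • x = 0) → IsFiniteLength (GrLC.deg0 𝒜) N

end Defs

section Fin

variable (J : Ideal R) (hJ : KillFin 𝒜 J)

include hJ in
lemma isFiniteLength_comp' (X : GrLC.GMod.{u} 𝒜) [Module.Finite R X.carrier]
    (hX : Kill 𝒜 J X) (n : ℤ) : IsFiniteLength (GrLC.deg0 𝒜) (GrLC.comp 𝒜 X.gr n) := by
  haveI : IsNoetherian R X.carrier := isNoetherian_of_isNoetherianRing_of_finite R X.carrier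
  haveI := isNoetherian_comp_of_isNoetherian 𝒜 X.gr n
  apply hJ
  intro r hr x
  apply Subtype.ext
  exact hX (r : R) hr x.1

/-- local cohomology of a module killed by `J` is killed by `J` -/
lemma smul_H_eq_zero (a : Ideal R) (i : ℕ) (X : GrLC.GMod.{u} 𝒜) (hX : Kill 𝒜 J X)
    (r : R) (hr : r ∈ J) (v : LocCoh.H a i X.carrier) : r • v = 0 := by
  have h0 : (r • 𝟙 (ModuleCat.of R X.carrier)) = (0 : ModuleCat.of R X.carrier ⟶ _) := by
    apply ModuleCat.hom_ext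
    apply LinearMap.ext
    intro m
    exact hX r hr m
  have h1 := map_smul_id a i (ModuleCat.of R X.carrier) r v
  rw [h0, map_zero'] at h1
  exact h1.symm

include hJ in
lemma isFiniteLength_LCcomp' (a : HomogeneousIdeal 𝒜)
    (ha : a.toIdeal = Ideal.span (⋃ n ∈ Set.Ioi (0 : ℤ), (𝒜 n : Set R)))
    (X : GrLC.GMod.{u} 𝒜) [Module.Finite R X.carrier] (hX : Kill 𝒜 J X) (i : ℕ) (n : ℤ) :
    IsFiniteLength (GrLC.deg0 𝒜) (LCcomp 𝒜 X.gr a.toIdeal i n) := by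
  haveI := finP 𝒜 a ha i X n
  apply hJ
  intro r hr x
  apply Subtype.ext
  exact smul_H_eq_zero 𝒜 J a.toIdeal i X hX (r : R) hr x.1

end Fin

section LES

variable (X₁ X₂ X₃ : GrLC.GMod.{u} 𝒜)
  (j : X₁.carrier →ₗ[R] X₂.carrier) (p : X₂.carrier →ₗ[R] X₃.carrier)
  (hjg : GrLC.IsGrHom X₁.gr X₂.gr j) (hpg : GrLC.IsGrHom X₂.gr X₃.gr p)
  (hj : Function.Injective j) (hp : Function.Surjective p)
  (hex : LinearMap.ker p = LinearMap.range j)
  (a : HomogeneousIdeal 𝒜)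

include hex in
lemma comp_eq_zero : p ∘ₗ j = 0 := by
  apply LinearMap.ext
  intro m
  have : j m ∈ LinearMap.ker p := by rw [hex]; exact ⟨m, rfl⟩
  exact this

/-- the first map of the long exact sequence in degree `n` -/
noncomputable def lesF (i : ℕ) (n : ℤ) :
    LCcomp 𝒜 X₁.gr a.toIdeal i n →ₗ[GrLC.deg0 𝒜] LCcomp 𝒜 X₂.gr a.toIdeal i n :=
  compMap 𝒜 X₁.gr X₂.gr a.toIdeal i i n n
    ((localCohomology a.toIdeal i).map (ModuleCat.ofHom j)).hom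
    (fun x hx => LCgr_map_zero 𝒜 X₁.gr X₂.gr a.toIdeal i n j hjg x hx)

/-- the second map of the long exact sequence in degree `n` -/
noncomputable def lesG (i : ℕ) (n : ℤ) :
    LCcomp 𝒜 X₂.gr a.toIdeal i n →ₗ[GrLC.deg0 𝒜] LCcomp 𝒜 X₃.gr a.toIdeal i n :=
  compMap 𝒜 X₂.gr X₃.gr a.toIdeal i i n n
    ((localCohomology a.toIdeal i).map (ModuleCat.ofHom p)).hom
    (fun x hx => LCgr_map_zero 𝒜 X₂.gr X₃.gr a.toIdeal i n p hpg x hx)

/-- the connecting map of the long exact sequence in degree `n` -/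
noncomputable def lesD (i : ℕ) (n : ℤ) :
    LCcomp 𝒜 X₃.gr a.toIdeal i n →ₗ[GrLC.deg0 𝒜] LCcomp 𝒜 X₁.gr a.toIdeal (i + 1) n :=
  compMap 𝒜 X₃.gr X₁.gr a.toIdeal i (i + 1) n n
    (δ a.toIdeal i (sesOf_shortExact j p (comp_eq_zero 𝒜 X₁ X₂ X₃ j p hex) hj hp hex))
    (fun x hx => LCgr_δ 𝒜 X₁.gr X₂.gr X₃.gr j p (comp_eq_zero 𝒜 X₁ X₂ X₃ j p hex)
      (sesOf_shortExact j p (comp_eq_zero 𝒜 X₁ X₂ X₃ j p hex) hj hp hex) hjg hpg a.toIdeal i n x hx)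

lemma lesF_apply (i : ℕ) (n : ℤ) (x : LCcomp 𝒜 X₁.gr a.toIdeal i n) :
    ((lesF 𝒜 X₁ X₂ j hjg a i n x : LCcomp 𝒜 X₂.gr a.toIdeal i n) : LocCoh.H a.toIdeal i X₂.carrier) =
      ((localCohomology a.toIdeal i).map (ModuleCat.ofHom j)) x.1 := rfl

lemma lesG_apply (i : ℕ) (n : ℤ) (x : LCcomp 𝒜 X₂.gr a.toIdeal i n) :
    ((lesG 𝒜 X₂ X₃ p hpg a i n x : LCcomp 𝒜 X₃.gr a.toIdeal i n) : LocCoh.H a.toIdeal i X₃.carrier) =
      ((localCohomology a.toIdeal i).map (ModuleCat.ofHom p)) x.1 := rfl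

lemma lesD_apply (i : ℕ) (n : ℤ) (x : LCcomp 𝒜 X₃.gr a.toIdeal i n) :
    ((lesD 𝒜 X₁ X₂ X₃ j p hjg hpg hj hp hex a i n x : LCcomp 𝒜 X₁.gr a.toIdeal (i + 1) n) :
      LocCoh.H a.toIdeal (i + 1) X₁.carrier) =
      δ a.toIdeal i (sesOf_shortExact j p (comp_eq_zero 𝒜 X₁ X₂ X₃ j p hex) hj hp hex) x.1 := by
  unfold lesD
  exact compMap_apply 𝒜 X₃.gr X₁.gr a.toIdeal i (i + 1) n n _ _ x

include hj in
lemma lesF_zero_injective (n : ℤ) :
    Function.Injective (lesF 𝒜 X₁ X₂ j hjg a 0 n) := by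
  intro x y hxy
  apply Subtype.ext
  have h1 : ((localCohomology a.toIdeal 0).map (ModuleCat.ofHom j)) x.1 =
      ((localCohomology a.toIdeal 0).map (ModuleCat.ofHom j)) y.1 :=
    (lesF_apply 𝒜 X₁ X₂ j hjg a 0 n x).symm.trans ((congrArg Subtype.val hxy).trans
      (lesF_apply 𝒜 X₁ X₂ j hjg a 0 n y))
  have h2 := congrArg (ev0 a.toIdeal (ModuleCat.of R X₂.carrier)) h1
  rw [ev0_map, ev0_map] at h2
  exact ev0_injective a.toIdeal (ModuleCat.of R X₁.carrier) (hj h2)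

include hj hp hex in
lemma range_lesF (i : ℕ) (n : ℤ) :
    LinearMap.range (lesF 𝒜 X₁ X₂ j hjg a i n) = LinearMap.ker (lesG 𝒜 X₂ X₃ p hpg a i n) := by
  have h := comp_eq_zero 𝒜 X₁ X₂ X₃ j p hex
  have hS := sesOf_shortExact j p h hj hp hex
  ext ⟨v, hv⟩
  constructor
  · rintro ⟨⟨w, hw⟩, hfw⟩
    rw [LinearMap.mem_ker]
    apply Subtype.ext
    have h1 : ((localCohomology a.toIdeal i).map (ModuleCat.ofHom j)) w = v :=
      (lesF_apply 𝒜 X₁ X₂ j hjg a i n ⟨w, hw⟩).symm.trans (congrArg Subtype.val hfw)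
    refine (lesG_apply 𝒜 X₂ X₃ p hpg a i n ⟨v, hv⟩).trans ?_
    show ((localCohomology a.toIdeal i).map (ModuleCat.ofHom p)) v = 0
    rw [← h1]
    exact (exact_f_g a.toIdeal i hS _).mpr ⟨w, rfl⟩
  · intro hv0
    have h0 : ((localCohomology a.toIdeal i).map (ModuleCat.ofHom p)) v = 0 :=
      (lesG_apply 𝒜 X₂ X₃ p hpg a i n ⟨v, hv⟩).symm.trans (congrArg Subtype.val hv0)
    obtain ⟨w, hw, hwv⟩ := exists_LCgr_of_map_g_eq_zero 𝒜 X₁.gr X₂.gr j p h hS hjg a i n v hv h0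
    exact ⟨⟨w, hw⟩, Subtype.ext hwv⟩

lemma range_lesG (i : ℕ) (n : ℤ) :
    LinearMap.range (lesG 𝒜 X₂ X₃ p hpg a i n) =
      LinearMap.ker (lesD 𝒜 X₁ X₂ X₃ j p hjg hpg hj hp hex a i n) := by
  have h := comp_eq_zero 𝒜 X₁ X₂ X₃ j p hex
  have hS := sesOf_shortExact j p h hj hp hex
  ext ⟨v, hv⟩
  constructor
  · rintro ⟨⟨w, hw⟩, hgw⟩
    rw [LinearMap.mem_ker]
    apply Subtype.ext
    have h1 : ((localCohomology a.toIdeal i).map (ModuleCat.ofHom p)) w = v :=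
      (lesG_apply 𝒜 X₂ X₃ p hpg a i n ⟨w, hw⟩).symm.trans (congrArg Subtype.val hgw)
    refine (lesD_apply 𝒜 X₁ X₂ X₃ j p hjg hpg hj hp hex a i n ⟨v, hv⟩).trans ?_
    show δ a.toIdeal i hS v = 0
    rw [← h1]
    exact (exact_g_δ a.toIdeal i hS _).mpr ⟨w, rfl⟩
  · intro hv0
    have h0 : δ a.toIdeal i hS v = 0 :=
      (lesD_apply 𝒜 X₁ X₂ X₃ j p hjg hpg hj hp hex a i n ⟨v, hv⟩).symm.trans
        (congrArg Subtype.val hv0)
    obtain ⟨w, hw, hwv⟩ := exists_LCgr_of_δ_eq_zero 𝒜 X₂.gr X₃.gr j p h hS hpg a i n v hv h0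
    exact ⟨⟨w, hw⟩, Subtype.ext hwv⟩

lemma range_lesD (i : ℕ) (n : ℤ) :
    LinearMap.range (lesD 𝒜 X₁ X₂ X₃ j p hjg hpg hj hp hex a i n) =
      LinearMap.ker (lesF 𝒜 X₁ X₂ j hjg a (i + 1) n) := by
  have h := comp_eq_zero 𝒜 X₁ X₂ X₃ j p hex
  have hS := sesOf_shortExact j p h hj hp hex
  ext ⟨v, hv⟩
  constructor
  · rintro ⟨⟨w, hw⟩, hδw⟩
    rw [LinearMap.mem_ker]
    apply Subtype.ext
    have h1 : δ a.toIdeal i hS w = v :=
      (lesD_apply 𝒜 X₁ X₂ X₃ j p hjg hpg hj hp hex a i n ⟨w, hw⟩).symm.trans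
        (congrArg Subtype.val hδw)
    refine (lesF_apply 𝒜 X₁ X₂ j hjg a (i + 1) n ⟨v, hv⟩).trans ?_
    show ((localCohomology a.toIdeal (i + 1)).map (ModuleCat.ofHom j)) v = 0
    rw [← h1]
    exact (exact_δ_f a.toIdeal i hS _).mpr ⟨w, rfl⟩
  · intro hv0
    have h0 : ((localCohomology a.toIdeal (i + 1)).map (ModuleCat.ofHom j)) v = 0 :=
      (lesF_apply 𝒜 X₁ X₂ j hjg a (i + 1) n ⟨v, hv⟩).symm.trans (congrArg Subtype.val hv0)
    obtain ⟨w, hw, hwv⟩ := exists_LCgr_of_map_f_eq_zero 𝒜 X₁.gr X₂.gr X₃.gr j p h hS hjg hpg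
      a i n v hv h0
    refine ⟨⟨w, hw⟩, ?_⟩
    apply Subtype.ext
    exact (lesD_apply 𝒜 X₁ X₂ X₃ j p hjg hpg hj hp hex a i n ⟨w, hw⟩).trans hwv

end LES

section SES

variable (X₁ X₂ X₃ : GrLC.GMod.{u} 𝒜)
  (j : X₁.carrier →ₗ[R] X₂.carrier) (p : X₂.carrier →ₗ[R] X₃.carrier)
  (hjg : GrLC.IsGrHom X₁.gr X₂.gr j) (hpg : GrLC.IsGrHom X₂.gr X₃.gr p)
  (hj : Function.Injective j) (hp : Function.Surjective p)
  (hex : LinearMap.ker p = LinearMap.range j)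

include hjg hpg hj hp hex in
/-- additivity of the Hilbert function, with explicit finiteness hypotheses -/
theorem hf_ses' (n : ℤ) (h₁ : IsFiniteLength (GrLC.deg0 𝒜) (GrLC.comp 𝒜 X₁.gr n))
    (h₃ : IsFiniteLength (GrLC.deg0 𝒜) (GrLC.comp 𝒜 X₃.gr n)) :
    hf 𝒜 X₂ n = hf 𝒜 X₁ n + hf 𝒜 X₃ n := by
  let jn : GrLC.comp 𝒜 X₁.gr n →ₗ[GrLC.deg0 𝒜] GrLC.comp 𝒜 X₂.gr n :=
    (j.restrictScalars (GrLC.deg0 𝒜)).restrict (p := GrLC.comp 𝒜 X₁.gr n)
      (q := GrLC.comp 𝒜 X₂.gr n) (fun x hx => hjg n x hx)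
  let pn : GrLC.comp 𝒜 X₂.gr n →ₗ[GrLC.deg0 𝒜] GrLC.comp 𝒜 X₃.gr n :=
    (p.restrictScalars (GrLC.deg0 𝒜)).restrict (p := GrLC.comp 𝒜 X₂.gr n)
      (q := GrLC.comp 𝒜 X₃.gr n) (fun x hx => hpg n x hx)
  have hjn : Function.Injective jn := by
    intro x y hxy
    apply Subtype.ext
    apply hj
    exact congrArg Subtype.val hxy
  have hpn : Function.Surjective pn := by
    rintro ⟨y, hy⟩
    obtain ⟨w, hw⟩ := hp y
    have hy' : y ∈ X₃.gr (n + 0) := by rw [add_zero]; exact hy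
    obtain ⟨w', hw', hpw'⟩ := exists_homog_preimage X₂.gr X₃.gr
      ((isGrHomDeg_zero_iff X₂.gr X₃.gr).mpr hpg) hy' w hw
    exact ⟨⟨w', hw'⟩, Subtype.ext hpw'⟩
  have hexn : Function.Exact jn pn := by
    rintro ⟨x, hx⟩
    constructor
    · intro h0
      have h1 : p x = 0 := congrArg Subtype.val h0
      have h2 : x ∈ LinearMap.range j := by rw [← hex]; exact h1
      obtain ⟨w, hw⟩ := h2
      have hx' : x ∈ X₂.gr (n + 0) := by rw [add_zero]; exact hx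
      obtain ⟨w', hw', hjw'⟩ := exists_homog_preimage X₁.gr X₂.gr
        ((isGrHomDeg_zero_iff X₁.gr X₂.gr).mpr hjg) hx' w hw
      exact ⟨⟨w', hw'⟩, Subtype.ext hjw'⟩
    · rintro ⟨⟨w, hw⟩, hwx⟩
      apply Subtype.ext
      have h1 : j w = x := congrArg Subtype.val hwx
      change p x = 0
      rw [← h1]
      have : j w ∈ LinearMap.ker p := by rw [hex]; exact ⟨w, rfl⟩
      exact this
  exact ilen_ses jn pn hjn hpn hexn h₁ h₃

include hjg hpg hj hp hex in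
/-- additivity of the Euler characteristic of local cohomology in one degree, with explicit
finiteness hypotheses -/
theorem lsum_ses' (a : HomogeneousIdeal 𝒜) (D : ℕ) (hcd : LocCoh.CdLE R a.toIdeal D) (n : ℤ)
    (h₁ : ∀ i, IsFiniteLength (GrLC.deg0 𝒜) (LCcomp 𝒜 X₁.gr a.toIdeal i n))
    (h₂ : ∀ i, IsFiniteLength (GrLC.deg0 𝒜) (LCcomp 𝒜 X₂.gr a.toIdeal i n))
    (h₃ : ∀ i, IsFiniteLength (GrLC.deg0 𝒜) (LCcomp 𝒜 X₃.gr a.toIdeal i n)) :
    lsum 𝒜 a D X₂ n = lsum 𝒜 a D X₁ n + lsum 𝒜 a D X₃ n := by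
  have hAD : Subsingleton (LCcomp 𝒜 X₁.gr a.toIdeal (D + 1) n) := by
    haveI : Subsingleton (LocCoh.H a.toIdeal (D + 1) X₁.carrier) :=
      hcd X₁.carrier (D + 1) (Nat.lt_succ_self D)
    refine ⟨fun x y => Subtype.ext ?_⟩
    exact Subsingleton.elim (x.1 : LocCoh.H a.toIdeal (D + 1) X₁.carrier) y.1
  exact euler_les' (R₀ := GrLC.deg0 𝒜)
    (fun i => LCcomp 𝒜 X₁.gr a.toIdeal i n) (fun i => LCcomp 𝒜 X₂.gr a.toIdeal i n)
    (fun i => LCcomp 𝒜 X₃.gr a.toIdeal i n)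
    (fun i => lesF 𝒜 X₁ X₂ j hjg a i n) (fun i => lesG 𝒜 X₂ X₃ p hpg a i n)
    (fun i => lesD 𝒜 X₁ X₂ X₃ j p hjg hpg hj hp hex a i n)
    (lesF_zero_injective 𝒜 X₁ X₂ j hjg hj a n)
    (fun i => range_lesF 𝒜 X₁ X₂ X₃ j p hjg hpg hj hp hex a i n)
    (fun i => range_lesG 𝒜 X₁ X₂ X₃ j p hjg hpg hj hp hex a i n)
    (fun i => range_lesD 𝒜 X₁ X₂ X₃ j p hjg hpg hj hp hex a i n)
    h₁ h₂ h₃ D hAD

end SES

end Groth.Agent.Lib.Helper6.GSR
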