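import Mathlib
import Groth.Prelude.Def_GrLC
import Groth.Prelude.Def_Wider
import Groth.Agent.Lib.Helper9.GrLC.Fg
import Groth.Agent.Lib.Helper9.GrLC.Reg
import Groth.Agent.Lib.Helper6.GSF.GSd
import Groth.Agent.Lib.Helper6.GSR.GRa
import Groth.Agent.Lib.Helper6.GSR.GRb

set_option autoImplicit false
set_option linter.unusedSectionVars false
set_option linter.unusedVariables false
set_option linter.unusedSimpArgs false
set_option linter.style.haveILetI false
set_option linter.overlappingInstances false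
set_option maxHeartbeats 800000

/-!
# Consequences of the long exact sequence in one degree; the "filtration" recursion

For a finitely generated graded module `X` with a homogeneous submodule `N` such that `X/N` is
killed by `J`, together with an injective map `μ : N(-1) → X` of graded modules whose cokernel is
killed by the irrelevant ideal and concentrated in degree zero, the pieces of `H^i(X)` in degrees
`n ≥ 0` have finite length and their Euler characteristics satisfy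
`χ_X(n) = χ_X(n+1) + χ_{X/N}(n)`.
-/

universe u

namespace Groth.Agent.Lib.Helper6.GSR

open CategoryTheory DirectSum Groth.Agent.Helper9.GrLCLib Groth.Agent.Helper8.LC
open Groth.Agent.Helper9.GrLCLib.Van Groth.Agent.Helper9.GrLCLib.VanZ
open Groth.Agent.Helper9.GrLCLib.Fg Groth.Agent.Helper9.GrLCLib.FinZ
open Groth.Agent.Lib.Helper6.GSF

section Alg

lemma isFiniteLength_of_range_eq_ker {R₀ : Type*} [Ring R₀] {A B C : Type*}
    [AddCommGroup A] [Module R₀ A] [AddCommGroup B] [Module R₀ B] [AddCommGroup C] [Module R₀ C]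
    (f : A →ₗ[R₀] B) (g : B →ₗ[R₀] C) (h : LinearMap.range f = LinearMap.ker g)
    (hA : IsFiniteLength R₀ A) (hC : IsFiniteLength R₀ C) : IsFiniteLength R₀ B := by
  rw [isFiniteLength_iff_isNoetherian_isArtinian] at hA hC ⊢
  obtain ⟨hA1, hA2⟩ := hA
  obtain ⟨hC1, hC2⟩ := hC
  exact ⟨isNoetherian_of_range_eq_ker f g h, isArtinian_of_range_eq_ker f g h⟩

lemma isFiniteLength_of_subsingleton' {R₀ : Type*} [Ring R₀] {A : Type*}
    [AddCommGroup A] [Module R₀ A] [Subsingleton A] : IsFiniteLength R₀ A := by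
  rw [isFiniteLength_iff_isNoetherian_isArtinian]
  exact ⟨inferInstance, inferInstance⟩

end Alg

variable {R : Type u} [CommRing R] [IsNoetherianRing R] (𝒜 : ℤ → AddSubgroup R) [GradedRing 𝒜]

section Vanish

variable (X : GrLC.GMod.{u} 𝒜) (a : HomogeneousIdeal 𝒜)

lemma subsingleton_LCcomp_of_subsingleton (i : ℕ) (n : ℤ)
    (h : Subsingleton (LocCoh.H a.toIdeal i X.carrier)) :
    Subsingleton (LCcomp 𝒜 X.gr a.toIdeal i n) := by
  refine ⟨fun x y => Subtype.ext ?_⟩
  exact Subsingleton.elim (x.1 : LocCoh.H a.toIdeal i X.carrier) y.1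

lemma subsingleton_LCcomp_of_eq_bot (i : ℕ) (n : ℤ)
    (h : LCgr 𝒜 X.gr a.toIdeal i n = ⊥) :
    Subsingleton (LCcomp 𝒜 X.gr a.toIdeal i n) := by
  refine ⟨fun x y => Subtype.ext ?_⟩
  have hx : (x : LocCoh.H a.toIdeal i X.carrier) ∈ LCgr 𝒜 X.gr a.toIdeal i n := x.2
  have hy : (y : LocCoh.H a.toIdeal i X.carrier) ∈ LCgr 𝒜 X.gr a.toIdeal i n := y.2
  rw [h] at hx hy
  rw [AddSubgroup.mem_bot.mp hx, AddSubgroup.mem_bot.mp hy]

lemma subsingleton_LCcomp_succ_of_kill
    (hkill : ∀ r ∈ a.toIdeal, ∀ m : X.carrier, r • m = 0) (i : ℕ) (n : ℤ) :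
    Subsingleton (LCcomp 𝒜 X.gr a.toIdeal (i + 1) n) :=
  subsingleton_LCcomp_of_subsingleton 𝒜 X a (i + 1) n
    (subsingleton_of_isPowerTorsion a.toIdeal (i + 1) (Nat.succ_pos i) X.carrier
      (isPowerTorsion_of_kill 𝒜 X a hkill))

lemma subsingleton_LCcomp_zero_of_gr_eq_bot (n : ℤ) (h : X.gr n = ⊥) :
    Subsingleton (LCcomp 𝒜 X.gr a.toIdeal 0 n) := by
  refine ⟨fun x y => Subtype.ext ?_⟩
  apply ev0_injective a.toIdeal (ModuleCat.of R X.carrier)
  have hx := (mem_LCgr_zero 𝒜 X.gr a.toIdeal n x.1).mp x.2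
  have hy := (mem_LCgr_zero 𝒜 X.gr a.toIdeal n y.1).mp y.2
  rw [h] at hx hy
  rw [AddSubgroup.mem_bot.mp hx, AddSubgroup.mem_bot.mp hy]

end Vanish

section Bij

variable (X₁ X₂ X₃ : GrLC.GMod.{u} 𝒜)
  (j : X₁.carrier →ₗ[R] X₂.carrier) (p : X₂.carrier →ₗ[R] X₃.carrier)
  (hjg : GrLC.IsGrHom X₁.gr X₂.gr j) (hpg : GrLC.IsGrHom X₂.gr X₃.gr p)
  (hj : Function.Injective j) (hp : Function.Surjective p)
  (hex : LinearMap.ker p = LinearMap.range j)
  (a : HomogeneousIdeal 𝒜)

include hjg hpg hj hp hex in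
/-- if the pieces of the local cohomology of the cokernel vanish in degree `n`, the first maps of
the long exact sequence in degree `n` are bijective -/
theorem lesF_bijective (n : ℤ) (h₃ : ∀ i, Subsingleton (LCcomp 𝒜 X₃.gr a.toIdeal i n)) (i : ℕ) :
    Function.Bijective (lesF 𝒜 X₁ X₂ j hjg a i n) := by
  constructor
  · cases i with
    | zero => exact lesF_zero_injective 𝒜 X₁ X₂ j hjg hj a n
    | succ i =>
      rw [← LinearMap.ker_eq_bot, ← range_lesD 𝒜 X₁ X₂ X₃ j p hjg hpg hj hp hex a i n]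
      haveI := h₃ i
      rw [LinearMap.range_eq_bot]
      apply LinearMap.ext
      intro x
      rw [Subsingleton.elim x 0, map_zero, map_zero]
  · rw [← LinearMap.range_eq_top, range_lesF 𝒜 X₁ X₂ X₃ j p hjg hpg hj hp hex a i n]
    haveI := h₃ i
    rw [LinearMap.ker_eq_top]
    apply LinearMap.ext
    intro x
    exact Subsingleton.elim _ _

include hjg hpg hj hp hex in
/-- the middle term of the long exact sequence in one degree has finite length if the outer
terms do -/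
theorem isFiniteLength_LCcomp_mid (i : ℕ) (n : ℤ)
    (h₁ : IsFiniteLength (GrLC.deg0 𝒜) (LCcomp 𝒜 X₁.gr a.toIdeal i n))
    (h₃ : IsFiniteLength (GrLC.deg0 𝒜) (LCcomp 𝒜 X₃.gr a.toIdeal i n)) :
    IsFiniteLength (GrLC.deg0 𝒜) (LCcomp 𝒜 X₂.gr a.toIdeal i n) :=
  isFiniteLength_of_range_eq_ker (lesF 𝒜 X₁ X₂ j hjg a i n) (lesG 𝒜 X₂ X₃ p hpg a i n)
    (range_lesF 𝒜 X₁ X₂ X₃ j p hjg hpg hj hp hex a i n) h₁ h₃

end Bij

section Filt

variable (J : Ideal R) (hJ : KillFin 𝒜 J) (a : HomogeneousIdeal 𝒜)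
  (ha : a.toIdeal = Ideal.span (⋃ n ∈ Set.Ioi (0 : ℤ), (𝒜 n : Set R)))
  (D : ℕ) (hcd : LocCoh.CdLE R a.toIdeal D)
  (X : GrLC.GMod.{u} 𝒜) [Module.Finite R X.carrier]
  (N : Submodule R X.carrier) (hN : N.IsHomogeneous X.gr)
  (μ : (shiftGMod (subGMod X N hN) 1).carrier →ₗ[R] X.carrier)
  (hμg : GrLC.IsGrHom (shiftGMod (subGMod X N hN) 1).gr X.gr μ) (hμ : Function.Injective μ)
  (hkill₀ : ∀ r ∈ a.toIdeal, ∀ x : X.carrier, r • x ∈ LinearMap.range μ)
  (hconc : ∀ k : ℤ, k ≠ 0 → ∀ x ∈ X.gr k, x ∈ LinearMap.range μ)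
  (hG : ∀ r ∈ J, ∀ x : X.carrier, r • x ∈ N)

include hkill₀ hconc in
/-- the pieces of the local cohomology of the cokernel of `μ` vanish in nonzero degrees -/
lemma subsingleton_LCcomp_coker (k : ℤ) (hk : k ≠ 0) (i : ℕ) :
    Subsingleton (LCcomp 𝒜
      (quotGMod X (LinearMap.range μ) (range_isHomogeneous _ X.gr hμg)).gr a.toIdeal i k) := by
  have hR := range_isHomogeneous (shiftGMod (subGMod X N hN) 1).gr X.gr hμg
  cases i with
  | zero =>
    apply subsingleton_LCcomp_zero_of_gr_eq_bot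
    rw [eq_bot_iff]
    rintro q ⟨m, hm, rfl⟩
    rw [AddSubgroup.mem_bot]
    exact (quotMap_eq_zero_iff X (LinearMap.range μ) hR m).mpr (hconc k hk m hm)
  | succ i =>
    apply subsingleton_LCcomp_succ_of_kill
    intro r hr m
    obtain ⟨m', rfl⟩ := quotMap_surjective X (LinearMap.range μ) hR m
    rw [← map_smul]
    exact (quotMap_eq_zero_iff X (LinearMap.range μ) hR (r • m')).mpr (hkill₀ r hr m')

include hμg hμ hkill₀ hconc in
/-- the pieces of `H^i(N)` in degree `k - 1` and of `H^i(X)` in degree `k ≠ 0` are isomorphic -/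
lemma nonempty_equiv_sub (k : ℤ) (hk : k ≠ 0) (i : ℕ) :
    Nonempty (LCcomp 𝒜 (subGMod X N hN).gr a.toIdeal i (k - 1) ≃ₗ[GrLC.deg0 𝒜]
      LCcomp 𝒜 X.gr a.toIdeal i k) := by
  have hR := range_isHomogeneous (shiftGMod (subGMod X N hN) 1).gr X.gr hμg
  have hbij := lesF_bijective 𝒜 (shiftGMod (subGMod X N hN) 1) X
    (quotGMod X (LinearMap.range μ) hR) μ (quotMap X (LinearMap.range μ) hR) hμg
    (isGrHom_quotMap X _ hR) hμ (quotMap_surjective X _ hR) (ker_quotMap X _ hR) a k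
    (fun i => subsingleton_LCcomp_coker 𝒜 a X N hN μ hμg hkill₀ hconc k hk i) i
  exact ⟨(shiftLCEquiv 𝒜 (subGMod X N hN) 1 a.toIdeal i k).symm.trans
    (LinearEquiv.ofBijective _ hbij)⟩

include hG in
lemma kill_quot : Kill 𝒜 J (quotGMod X N hN) := by
  intro r hr m
  obtain ⟨m', rfl⟩ := quotMap_surjective X N hN m
  rw [← map_smul]
  exact (quotMap_eq_zero_iff X N hN (r • m')).mpr (hG r hr m')

lemma finite_quot : Module.Finite R (quotGMod X N hN).carrier :=
  Module.Finite.of_surjective (quotMap X N hN) (quotMap_surjective X N hN)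

include hJ ha hcd hμg hμ hkill₀ hconc hG in
/-- finiteness of the pieces of local cohomology in non-negative degrees -/
theorem isFiniteLength_LCcomp_filt (n : ℤ) (hn : 0 ≤ n) (i : ℕ) :
    IsFiniteLength (GrLC.deg0 𝒜) (LCcomp 𝒜 X.gr a.toIdeal i n) := by
  classical
  haveI := finite_quot 𝒜 X N hN
  -- vanishing in high degrees
  have hvan : ∀ i : ℕ, ∃ s : ℤ, ∀ k, s ≤ k → LCgr 𝒜 X.gr a.toIdeal i k = ⊥ :=
    fun i => vanP 𝒜 a ha i X
  choose sv hsv using hvan
  obtain ⟨B, hB⟩ := Finset.exists_le ((Finset.range (D + 1)).image sv)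
  have hhigh : ∀ (k : ℤ), B ≤ k → ∀ i, Subsingleton (LCcomp 𝒜 X.gr a.toIdeal i k) := by
    intro k hk i
    by_cases hi : i ≤ D
    · apply subsingleton_LCcomp_of_eq_bot
      apply hsv i k
      exact le_trans (hB (sv i) (Finset.mem_image_of_mem _ (Finset.mem_range.mpr (by omega)))) hk
    · exact subsingleton_LCcomp_of_subsingleton 𝒜 X a i k (hcd X.carrier i (by omega))
  have key : ∀ (m : ℕ) (k : ℤ), 0 ≤ k → B ≤ k + m →
      ∀ i, IsFiniteLength (GrLC.deg0 𝒜) (LCcomp 𝒜 X.gr a.toIdeal i k) := by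
    intro m
    induction m with
    | zero =>
      intro k _ hk i
      haveI := hhigh k (by simpa using hk) i
      exact isFiniteLength_of_subsingleton'
    | succ m ih =>
      intro k hk0 hk i
      have h1 := ih (k + 1) (by omega) (by push_cast at hk ⊢; omega) i
      obtain ⟨e⟩ := nonempty_equiv_sub 𝒜 a X N hN μ hμg hμ hkill₀ hconc (k + 1) (by omega) i
      have h2 : IsFiniteLength (GrLC.deg0 𝒜)
          (LCcomp 𝒜 (subGMod X N hN).gr a.toIdeal i (k + 1 - 1)) :=
        IsFiniteLength.of_surjective h1 e.symm.surjective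
      rw [add_sub_cancel_right] at h2
      have h3 : IsFiniteLength (GrLC.deg0 𝒜)
          (LCcomp 𝒜 (quotGMod X N hN).gr a.toIdeal i k) :=
        isFiniteLength_LCcomp' 𝒜 J hJ a ha (quotGMod X N hN) (kill_quot 𝒜 J X N hN hG) i k
      exact isFiniteLength_LCcomp_mid 𝒜 (subGMod X N hN) X (quotGMod X N hN) (subMap X N hN)
        (quotMap X N hN) (isGrHom_subMap X N hN) (isGrHom_quotMap X N hN)
        (subMap_injective X N hN) (quotMap_surjective X N hN)
        ((ker_quotMap X N hN).trans (range_subMap X N hN).symm) a i k h2 h3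
  obtain ⟨m, hm⟩ : ∃ m : ℕ, B ≤ n + m := ⟨(B - n).toNat, by omega⟩
  exact key m n hn hm i

include hJ ha hcd hμg hμ hkill₀ hconc hG in
/-- the recursion for the Euler characteristics -/
theorem lsum_filt (n : ℤ) (hn : 0 ≤ n) :
    lsum 𝒜 a D X n = lsum 𝒜 a D X (n + 1) + lsum 𝒜 a D (quotGMod X N hN) n := by
  haveI := finite_quot 𝒜 X N hN
  have hfin : ∀ (k : ℤ), 0 ≤ k → ∀ i, IsFiniteLength (GrLC.deg0 𝒜)
      (LCcomp 𝒜 X.gr a.toIdeal i k) := fun k hk i =>
    isFiniteLength_LCcomp_filt 𝒜 J hJ a ha D hcd X N hN μ hμg hμ hkill₀ hconc hG k hk i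
  have hsub : ∀ i, Nonempty (LCcomp 𝒜 (subGMod X N hN).gr a.toIdeal i n ≃ₗ[GrLC.deg0 𝒜]
      LCcomp 𝒜 X.gr a.toIdeal i (n + 1)) := by
    intro i
    have h := nonempty_equiv_sub 𝒜 a X N hN μ hμg hμ hkill₀ hconc (n + 1) (by omega) i
    rw [add_sub_cancel_right] at h
    exact h
  have h1 : ∀ i, IsFiniteLength (GrLC.deg0 𝒜)
      (LCcomp 𝒜 (subGMod X N hN).gr a.toIdeal i n) := by
    intro i
    obtain ⟨e⟩ := hsub i
    exact IsFiniteLength.of_surjective (hfin (n + 1) (by omega) i) e.symm.surjective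
  have h3 : ∀ i, IsFiniteLength (GrLC.deg0 𝒜)
      (LCcomp 𝒜 (quotGMod X N hN).gr a.toIdeal i n) := fun i =>
    isFiniteLength_LCcomp' 𝒜 J hJ a ha (quotGMod X N hN) (kill_quot 𝒜 J X N hN hG) i n
  have hses := lsum_ses' 𝒜 (subGMod X N hN) X (quotGMod X N hN) (subMap X N hN)
    (quotMap X N hN) (isGrHom_subMap X N hN) (isGrHom_quotMap X N hN)
    (subMap_injective X N hN) (quotMap_surjective X N hN)
    ((ker_quotMap X N hN).trans (range_subMap X N hN).symm) a D hcd n h1 (hfin n hn) h3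
  rw [hses]
  congr 1
  unfold GSF.lsum
  apply Finset.sum_congr rfl
  intro i _
  congr 1
  obtain ⟨e⟩ := hsub i
  exact ilen_eq_of_equiv e

end Filt

end Groth.Agent.Lib.Helper6.GSR
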