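import Mathlib
import Groth.Prelude.Def_GrLC
import Groth.Prelude.Def_GrSyz
import Groth.Prelude.Def_Wider
import Groth.Prelude.Def_Rees
import Groth.Prelude.Def_ReesMod
import Groth.Agent.Lib.Helper9.GrLC.Trans
import Groth.Agent.Lib.Helper8.LC16
import Groth.Agent.Lib.Helper1.MiscL
import Groth.Agent.Lib.Helper6.GSR.GRc

set_option autoImplicit false
set_option linter.unusedSectionVars false
set_option linter.unusedVariables false
set_option linter.unusedSimpArgs false
set_option linter.style.haveILetI false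
set_option linter.overlappingInstances false
set_option maxHeartbeats 800000

/-!
# The Rees algebra of an ideal as a standard graded ring: the ring-side facts
-/

universe u

namespace Groth.Agent.Lib.Helper6.GSR

open CategoryTheory DirectSum Groth.Agent.Helper9.GrLCLib Groth.Agent.Helper8.LC
open Groth.Agent.Lib.Helper6.GSF
open scoped Polynomial

variable {A : Type u} [CommRing A] (I : Ideal A)

/-- the ℤ-grading of the Rees algebra by additive subgroups -/
noncomputable abbrev rA : ℤ → AddSubgroup ↥(reesAlgebra I) := Trans.toAG (Rees.degZ (reesAlgebra I))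

/-- the irrelevant ideal -/
noncomputable abbrev rIrr : HomogeneousIdeal (rA I) :=
  Trans.idealToAG (Rees.degZ (reesAlgebra I)) (GrSyz.irrel (Rees.degZ (reesAlgebra I)))

lemma mem_rA_iff (n : ℤ) (f : ↥(reesAlgebra I)) :
    f ∈ rA I n ↔ ∀ m : ℕ, (m : ℤ) ≠ n → (f : A[X]).coeff m = 0 := Iff.rfl

lemma rA_neg (n : ℤ) (hn : n < 0) : rA I n = ⊥ := by
  rw [eq_bot_iff]
  intro f hf
  rw [AddSubgroup.mem_bot]
  apply Subtype.ext
  apply Polynomial.ext
  intro m
  rw [(mem_rA_iff I n f).mp hf m (by omega)]
  simp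

lemma rIrr_toIdeal : (rIrr I).toIdeal =
    Ideal.span (⋃ n ∈ Set.Ioi (0 : ℤ), ((rA I n : AddSubgroup ↥(reesAlgebra I)) : Set _)) := by
  change Ideal.span {r : ↥(reesAlgebra I) | ∃ n : ℤ, 0 < n ∧ r ∈ Rees.degZ (reesAlgebra I) n} = _
  congr 1
  ext r
  simp only [Set.mem_ofPred_eq, Set.mem_iUnion, Set.mem_Ioi, SetLike.mem_coe, exists_prop]
  exact Iff.rfl

/-- a monomial of the Rees algebra -/
noncomputable def rmon (k : ℕ) (c : A) (hc : c ∈ I ^ k) : ↥(reesAlgebra I) :=
  ⟨Polynomial.monomial k c, reesAlgebra.monomial_mem.mpr hc⟩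

lemma rmon_mem (k : ℕ) (c : A) (hc : c ∈ I ^ k) : rmon I k c hc ∈ rA I (k : ℤ) := by
  intro m hm
  change (Polynomial.monomial k c).coeff m = 0
  rw [Polynomial.coeff_monomial, if_neg]
  rintro rfl
  exact hm rfl

lemma eq_rmon_of_mem (k : ℕ) (f : ↥(reesAlgebra I)) (hf : f ∈ rA I (k : ℤ)) :
    f = rmon I k ((f : A[X]).coeff k) (f.2 k) := by
  apply Subtype.ext
  apply Polynomial.ext
  intro m
  change _ = (Polynomial.monomial k ((f : A[X]).coeff k)).coeff m
  rw [Polynomial.coeff_monomial]
  split_ifs with h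
  · rw [h]
  · exact (mem_rA_iff I k f).mp hf m (fun h' => h (by exact_mod_cast h'.symm))

lemma rmon_mem_span (k : ℕ) (c : A) (hc : c ∈ I ^ (k + 1)) :
    rmon I (k + 1) c hc ∈ Ideal.span ((rA I 1 : AddSubgroup ↥(reesAlgebra I)) : Set _) := by
  have hc' : c ∈ I ^ k * I := by rw [← pow_succ]; exact hc
  have key : ∀ c ∈ I ^ k * I, ∃ hc : c ∈ I ^ (k + 1),
      rmon I (k + 1) c hc ∈ Ideal.span ((rA I 1 : AddSubgroup ↥(reesAlgebra I)) : Set _) := by
    intro c hc0
    refine Submodule.mul_induction_on hc0 ?_ ?_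
    · intro x hx y hy
      have hy1 : y ∈ I ^ 1 := by rw [pow_one]; exact hy
      have hxy : x * y ∈ I ^ (k + 1) := by rw [pow_succ]; exact Ideal.mul_mem_mul hx hy
      refine ⟨hxy, ?_⟩
      have h1 : rmon I (k + 1) (x * y) hxy = rmon I k x hx * rmon I 1 y hy1 := by
        apply Subtype.ext
        change Polynomial.monomial (k + 1) (x * y) =
          Polynomial.monomial k x * Polynomial.monomial 1 y
        rw [Polynomial.monomial_mul_monomial]
      rw [h1]
      apply Ideal.mul_mem_left
      apply Ideal.subset_span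
      exact rmon_mem I 1 y hy1
    · rintro x y ⟨hx, px⟩ ⟨hy, py⟩
      refine ⟨add_mem hx hy, ?_⟩
      have h1 : rmon I (k + 1) (x + y) (add_mem hx hy) =
          rmon I (k + 1) x hx + rmon I (k + 1) y hy := by
        apply Subtype.ext
        change Polynomial.monomial (k + 1) (x + y) =
          Polynomial.monomial (k + 1) x + Polynomial.monomial (k + 1) y
        rw [map_add]
      rw [h1]
      exact add_mem px py
  obtain ⟨_, h⟩ := key c hc'
  exact h

/-- the Rees algebra is standard graded -/
lemma rIrr_std : (rIrr I).toIdeal =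
    Ideal.span ((rA I 1 : AddSubgroup ↥(reesAlgebra I)) : Set _) := by
  rw [rIrr_toIdeal]
  apply le_antisymm
  · rw [Ideal.span_le]
    intro f hf
    simp only [Set.mem_iUnion, Set.mem_Ioi] at hf
    obtain ⟨n, hn, hfn⟩ := hf
    obtain ⟨k, rfl⟩ : ∃ k : ℕ, n = ((k + 1 : ℕ) : ℤ) := ⟨(n - 1).toNat, by omega⟩
    have hfn' : f ∈ rA I ((k + 1 : ℕ) : ℤ) := hfn
    rw [eq_rmon_of_mem I (k + 1) f hfn']
    exact rmon_mem_span I k _ _
  · apply Ideal.span_mono
    intro f hf
    simp only [Set.mem_iUnion, Set.mem_Ioi]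
    exact ⟨1, one_pos, hf⟩

section Noeth

variable [IsNoetherianRing A]

/-- the irrelevant ideal has finite cohomological dimension -/
lemma exists_cdLE : ∃ D : ℕ, LocCoh.CdLE ↥(reesAlgebra I) (rIrr I).toIdeal D := by
  classical
  have hfg : ((rIrr I).toIdeal).FG := IsNoetherian.noetherian _
  obtain ⟨S, hS⟩ := hfg
  refine ⟨S.card, ?_⟩
  have h := cdLE_span_finset (R := ↥(reesAlgebra I)) S
  have hS' : Ideal.span (S : Set ↥(reesAlgebra I)) = (rIrr I).toIdeal := hS
  rw [hS'] at h
  exact h

end Noeth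

section Sigma

/-- the base ring maps onto the degree zero part of the Rees algebra -/
noncomputable def rsigma : A →+* GrLC.deg0 (rA I) :=
  (algebraMap A ↥(reesAlgebra I)).codRestrict (GrLC.deg0 (rA I)) (fun c => by
    change algebraMap A ↥(reesAlgebra I) c ∈ rA I 0
    intro m hm
    change (algebraMap A A[X] c).coeff m = 0
    rw [Polynomial.algebraMap_apply, Algebra.algebraMap_self_apply, Polynomial.coeff_C, if_neg]
    rintro rfl
    exact hm rfl)

lemma rsigma_coe (c : A) :
    ((rsigma I c : GrLC.deg0 (rA I)) : ↥(reesAlgebra I)) = algebraMap A ↥(reesAlgebra I) c := rfl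

lemma rsigma_surjective : Function.Surjective (rsigma I) := by
  rintro ⟨f, hf⟩
  refine ⟨(f : A[X]).coeff 0, ?_⟩
  apply Subtype.ext
  apply Subtype.ext
  change algebraMap A A[X] ((f : A[X]).coeff 0) = (f : A[X])
  apply Polynomial.ext
  intro m
  rw [Polynomial.algebraMap_apply, Algebra.algebraMap_self_apply, Polynomial.coeff_C]
  split_ifs with h
  · rw [h]
  · have hf' : f ∈ rA I 0 := hf
    exact ((mem_rA_iff I 0 f).mp hf' m (fun h' => h (by exact_mod_cast h'))).symm

end Sigma

section KF

variable [IsNoetherianRing A] [IsLocalRing A] (hI : I.radical = IsLocalRing.maximalIdeal A)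

/-- the extension of `I` to the Rees algebra -/
noncomputable abbrev rJ : Ideal ↥(reesAlgebra I) := Ideal.map (algebraMap A ↥(reesAlgebra I)) I

include hI in
lemma exists_pow_le : ∃ k : ℕ, IsLocalRing.maximalIdeal A ^ k ≤ I := by
  have := Ideal.exists_radical_pow_le_of_fg I (IsNoetherian.noetherian _)
  rw [hI] at this
  exact this

include hI in
/-- finite modules over `A` killed by a power of `I` have finite length -/
lemma isFiniteLength_of_kill_pow (n : ℕ) (N : Type u) [AddCommGroup N] [Module A N]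
    [Module.Finite A N] (hN : ∀ c ∈ I ^ n, ∀ x : N, c • x = 0) : IsFiniteLength A N := by
  obtain ⟨k, hk⟩ := exists_pow_le I hI
  apply Groth.Agent.Helper1.MiscL.isFiniteLength_of_pow_smul_eq_bot
    (IsLocalRing.maximalIdeal A) (IsNoetherian.noetherian _) N (k * n)
  rw [eq_bot_iff, pow_mul]
  refine (Submodule.smul_mono_left (Ideal.pow_right_mono hk n)).trans ?_
  rw [Submodule.smul_le]
  intro c hc x _
  rw [hN c hc x]
  exact Submodule.zero_mem _

include hI in
/-- finite modules over `A` killed by `I` have finite length -/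
lemma isFiniteLength_of_kill (N : Type u) [AddCommGroup N] [Module A N]
    [Module.Finite A N] (hN : ∀ c ∈ I, ∀ x : N, c • x = 0) : IsFiniteLength A N :=
  isFiniteLength_of_kill_pow I hI 1 N (fun c hc x => hN c (by rwa [pow_one] at hc) x)

include hI in
/-- Noetherian modules over the degree zero part of the Rees algebra killed by `I` have finite
length -/
theorem killFin_rJ : KillFin (rA I) (rJ I) := by
  intro N _ _ _ hN
  letI : Algebra A (GrLC.deg0 (rA I)) := (rsigma I).toAlgebra
  letI : Module A N := Module.compHom N (rsigma I)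
  haveI : IsScalarTower A (GrLC.deg0 (rA I)) N :=
    IsScalarTower.of_algebraMap_smul (fun _ _ => rfl)
  haveI : Module.Finite A (GrLC.deg0 (rA I)) :=
    Module.Finite.of_surjective (Algebra.linearMap A (GrLC.deg0 (rA I))) (rsigma_surjective I)
  haveI : Module.Finite (GrLC.deg0 (rA I)) N := inferInstance
  haveI : Module.Finite A N := Module.Finite.trans (GrLC.deg0 (rA I)) N
  have h1 : IsFiniteLength A N := isFiniteLength_of_kill I hI N (fun c hc x => by
    change rsigma I c • x = 0
    exact hN (rsigma I c) (Ideal.mem_map_of_mem _ hc) x)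
  rw [← Module.length_ne_top_iff] at h1 ⊢
  rwa [← Module.length_eq_of_surjective (S := A) (R := GrLC.deg0 (rA I)) (rsigma_surjective I)]

end KF

end Groth.Agent.Lib.Helper6.GSR
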