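import Mathlib
import Groth.Prelude.Def_GrLC
import Groth.Prelude.Def_GrSyz
import Groth.Prelude.Def_Wider
import Groth.Prelude.Def_Rees
import Groth.Prelude.Def_ReesMod
import Groth.Agent.Lib.Helper9.GrLC.Trans
import Groth.Agent.Lib.Helper6.GSR.GRd

set_option autoImplicit false
set_option linter.unusedSectionVars false
set_option linter.unusedVariables false
set_option linter.unusedSimpArgs false
set_option linter.style.haveILetI false
set_option linter.overlappingInstances false
set_option maxHeartbeats 800000
set_option synthInstance.maxHeartbeats 200000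

/-!
# The Rees module of an `I`-filtration as a graded module: the module-side facts
-/

universe u

namespace Groth.Agent.Lib.Helper6.GSR

open Groth.Agent.Helper9.GrLCLib
open scoped Polynomial

variable {A : Type u} [CommRing A] {I : Ideal A} {M : Type u} [AddCommGroup M] [Module A M]
  (F : I.Filtration M)

/-- the ℤ-grading of the Rees module by additive subgroups -/
noncomputable abbrev fM : ℤ → AddSubgroup ↥F.submodule := Trans.toAG (Rees.mdegZ F)

/-- the Rees module as a bundled graded module -/
noncomputable def fX : GrLC.GMod.{u} (rA I) := GrLC.GMod.of (rA I) ↥F.submodule (fM F)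

lemma mem_fM_iff (n : ℤ) (x : ↥F.submodule) :
    x ∈ fM F n ↔ ∀ m : ℕ, (m : ℤ) ≠ n → (x : PolynomialModule A M).coeff m = 0 := Iff.rfl

/-- the submodule `⊕ N_{n+1} Xⁿ` of the Rees module -/
noncomputable def fN : Submodule ↥(reesAlgebra I) ↥F.submodule where
  carrier := {x | ∀ n, (x : PolynomialModule A M).coeff n ∈ F.N (n + 1)}
  add_mem' {x y} hx hy n := by
    rw [Submodule.coe_add, PolynomialModule.coeff_add, Finsupp.add_apply]
    exact add_mem (hx n) (hy n)
  zero_mem' n := by
    rw [Submodule.coe_zero, PolynomialModule.coeff_zero, Finsupp.zero_apply]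
    exact zero_mem _
  smul_mem' r x hx n := by
    rw [Submodule.coe_smul, Subalgebra.smul_def, PolynomialModule.smul_apply]
    apply Submodule.sum_mem
    rintro ⟨j, k⟩ e
    have e' : j + k = n := Finset.HasAntidiagonal.mem_antidiagonal.mp e
    subst e'
    have := F.pow_smul_le j (k + 1) (Submodule.smul_mem_smul (r.2 j) (hx k))
    rwa [← add_assoc] at this

lemma mem_fN_iff (x : ↥F.submodule) :
    x ∈ fN F ↔ ∀ n, (x : PolynomialModule A M).coeff n ∈ F.N (n + 1) := Iff.rfl

/-- the same submodule, typed inside the bundled graded module -/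
noncomputable def fNX : Submodule ↥(reesAlgebra I) (fX F).carrier := fN F

lemma fN_isHomogeneous' (i : ℤ) (x : ↥F.submodule) (hx : x ∈ fN F) :
    ((DirectSum.decompose (fM F) x i : fM F i) : ↥F.submodule) ∈ fN F := by
  classical
  rw [Trans.decompose_toAG_coe]
  have h1 : DirectSum.decompose (Rees.mdegZ F) x =
      Rees.mdecompAux F (Nat.castAddMonoidHom ℤ) x := rfl
  rw [h1, Rees.mdecompAux]
  have key : ∀ s : Finset ℕ, (((∑ m ∈ s, DirectSum.of (fun j => ↥(Rees.mdegBy F
      (Nat.castAddMonoidHom ℤ) j)) ((Nat.castAddMonoidHom ℤ) m)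
      ((Rees.mcomp F (Nat.castAddMonoidHom ℤ) m) x)) i :
      ↥(Rees.mdegBy F (Nat.castAddMonoidHom ℤ) i)) : ↥F.submodule) ∈ fN F := by
    intro s
    induction s using Finset.induction_on with
    | empty =>
      rw [Finset.sum_empty, DirectSum.zero_apply]
      exact zero_mem _
    | insert m s hm ih =>
      rw [Finset.sum_insert hm, DirectSum.add_apply, AddSubgroup.coe_add]
      refine add_mem ?_ ih
      rw [DirectSum.coe_of_apply]
      split_ifs with h
      · intro n
        rw [Rees.coe_coe_mcomp, PolynomialModule.coeff_single, Finsupp.single_apply]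
        split_ifs with h'
        · subst h'
          exact hx m
        · exact zero_mem _
      · exact zero_mem _
  exact key _

lemma fNX_isHomogeneous : (fNX F).IsHomogeneous (fX F).gr :=
  fun i x hx => fN_isHomogeneous' F i x hx

/-- multiplication by the variable on the polynomial module -/
noncomputable def mulXLin (I : Ideal A) (M : Type u) [AddCommGroup M] [Module A M] :
    PolynomialModule A M →ₗ[↥(reesAlgebra I)] PolynomialModule A M where
  toFun x := (Polynomial.X : A[X]) • x
  map_add' x y := smul_add _ _ _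
  map_smul' r x := by
    rw [RingHom.id_apply, Subalgebra.smul_def, Subalgebra.smul_def, smul_comm]

lemma mulXLin_coeff_zero (I : Ideal A) (x : PolynomialModule A M) :
    (mulXLin I M x).coeff 0 = 0 := by
  change ((Polynomial.X : A[X]) • x).coeff 0 = 0
  rw [← Polynomial.monomial_one_one_eq_X, PolynomialModule.monomial_smul_apply, if_neg (by omega)]

lemma mulXLin_coeff_succ (I : Ideal A) (x : PolynomialModule A M) (n : ℕ) :
    (mulXLin I M x).coeff (n + 1) = x.coeff n := by
  change ((Polynomial.X : A[X]) • x).coeff (n + 1) = x.coeff n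
  rw [← Polynomial.monomial_one_one_eq_X, PolynomialModule.monomial_smul_apply,
    if_pos (by omega), one_smul, Nat.add_sub_cancel]

/-- multiplication by the variable `⊕ N_{n+1} Xⁿ → ⊕ N_n Xⁿ` -/
noncomputable def fmu : ↥(fN F) →ₗ[↥(reesAlgebra I)] ↥F.submodule :=
  LinearMap.codRestrict F.submodule
    ((mulXLin I M) ∘ₗ F.submodule.subtype ∘ₗ (fN F).subtype) (fun x n => by
      change (mulXLin I M ((x : ↥F.submodule) : PolynomialModule A M)).coeff n ∈ _
      cases n with
      | zero => rw [mulXLin_coeff_zero I]; exact zero_mem _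
      | succ n => rw [mulXLin_coeff_succ I]; exact x.2 n)

lemma fmu_coeff_zero (x : ↥(fN F)) :
    ((fmu F x : ↥F.submodule) : PolynomialModule A M).coeff 0 = 0 :=
  mulXLin_coeff_zero I _

lemma fmu_coeff_succ (x : ↥(fN F)) (n : ℕ) :
    ((fmu F x : ↥F.submodule) : PolynomialModule A M).coeff (n + 1) =
      ((x : ↥F.submodule) : PolynomialModule A M).coeff n :=
  mulXLin_coeff_succ I _ n

lemma fmu_injective : Function.Injective (fmu F) := by
  intro x y hxy
  apply Subtype.ext
  apply Subtype.ext
  apply PolynomialModule.coeff_injective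
  ext n
  rw [← fmu_coeff_succ, ← fmu_coeff_succ, hxy]

/-- the image of multiplication by the variable: the elements without constant term -/
lemma mem_range_fmu (y : ↥F.submodule)
    (h0 : (y : PolynomialModule A M).coeff 0 = 0) : y ∈ LinearMap.range (fmu F) := by
  let x₀ : PolynomialModule A M := PolynomialModule.ofCoeff A
    (Finsupp.comapDomain Nat.succ (y : PolynomialModule A M).coeff Nat.succ_injective.injOn)
  have hx₀ : ∀ n, x₀.coeff n = (y : PolynomialModule A M).coeff (n + 1) := fun n => by
    change (Finsupp.comapDomain Nat.succ (y : PolynomialModule A M).coeff _) n = _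
    rw [Finsupp.comapDomain_apply]
  have hx₁ : x₀ ∈ F.submodule := by
    intro n
    rw [hx₀]
    exact F.antitone (Nat.le_succ n) (y.2 (n + 1))
  have hx₂ : (⟨x₀, hx₁⟩ : ↥F.submodule) ∈ fN F := by
    intro n
    change x₀.coeff n ∈ _
    rw [hx₀]
    exact y.2 (n + 1)
  refine ⟨⟨⟨x₀, hx₁⟩, hx₂⟩, ?_⟩
  apply Subtype.ext
  apply PolynomialModule.coeff_injective
  ext n
  cases n with
  | zero => rw [fmu_coeff_zero, h0]
  | succ n => rw [fmu_coeff_succ]; exact hx₀ n

lemma fmu_mem_fM (k : ℤ) (x : ↥(fN F)) (hx : (x : ↥F.submodule) ∈ fM F (k - 1)) :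
    fmu F x ∈ fM F k := by
  rw [mem_fM_iff] at hx ⊢
  intro m hm
  cases m with
  | zero => exact fmu_coeff_zero F x
  | succ m =>
    rw [fmu_coeff_succ]
    apply hx m
    intro h
    apply hm
    push_cast
    omega

/-- positive-degree elements of the Rees algebra multiply the Rees module into the elements
without constant term -/
lemma smul_mem_range_fmu (r : ↥(reesAlgebra I)) (hr : r ∈ (rIrr I).toIdeal)
    (x : ↥F.submodule) : (r • x : ↥F.submodule) ∈ LinearMap.range (fmu F) := by
  have hle : (rIrr I).toIdeal ≤ (LinearMap.range (fmu F)).colon (⊤ : Submodule ↥(reesAlgebra I) ↥F.submodule) := by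
    rw [rIrr_toIdeal, Ideal.span_le]
    intro f hf
    simp only [Set.mem_iUnion, Set.mem_Ioi] at hf
    obtain ⟨n, hn, hfn⟩ := hf
    rw [SetLike.mem_coe, Submodule.mem_colon]
    intro y _
    apply mem_range_fmu
    rw [Submodule.coe_smul, Subalgebra.smul_def, PolynomialModule.smul_apply,
      Finset.Nat.antidiagonal_zero, Finset.sum_singleton]
    have hf0 : (f : A[X]).coeff 0 = 0 := (mem_rA_iff I n f).mp hfn 0 (by push_cast; omega)
    rw [hf0, zero_smul]
  exact (Submodule.mem_colon.mp (hle hr)) x Submodule.mem_top

/-- homogeneous elements of nonzero degree have no constant term -/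
lemma mem_range_fmu_of_mem (k : ℤ) (hk : k ≠ 0) (x : ↥F.submodule)
    (hx : x ∈ fM F k) : x ∈ LinearMap.range (fmu F) := by
  apply mem_range_fmu
  exact (mem_fM_iff F k x).mp hx 0 (by push_cast; exact fun h => hk h.symm)

/-- the extension of `I` multiplies the Rees module into `⊕ N_{n+1} Xⁿ` -/
lemma smul_mem_fN (r : ↥(reesAlgebra I)) (hr : r ∈ rJ I) (x : ↥F.submodule) :
    (r • x : ↥F.submodule) ∈ fN F := by
  have hle : rJ I ≤ (fN F).colon (⊤ : Submodule ↥(reesAlgebra I) ↥F.submodule) := by
    rw [Ideal.map_le_iff_le_comap]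
    intro c hc
    rw [Ideal.mem_comap, Submodule.mem_colon]
    intro y _ n
    rw [Submodule.coe_smul, Subalgebra.smul_def]
    change ((algebraMap A A[X] c) • (y : PolynomialModule A M)).coeff n ∈ _
    rw [Polynomial.algebraMap_apply, Algebra.algebraMap_self_apply, ← Polynomial.monomial_zero_left,
      PolynomialModule.monomial_smul_apply, if_pos (Nat.zero_le n), Nat.sub_zero]
    exact F.smul_le n (Submodule.smul_mem_smul hc (y.2 n))
  exact (Submodule.mem_colon.mp (hle hr)) x Submodule.mem_top

section Fin

variable [IsNoetherianRing A] [Module.Finite A M]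

/-- the Rees module of a stable filtration is finitely generated over the Rees algebra -/
lemma finite_fX (hF : F.Stable) : Module.Finite ↥(reesAlgebra I) (fX F).carrier := by
  haveI : IsNoetherian A M := isNoetherian_of_isNoetherianRing_of_finite A M
  change Module.Finite ↥(reesAlgebra I) ↥F.submodule
  rw [Module.Finite.iff_fg]
  exact (F.submodule_fg_iff_stable (fun i => IsNoetherian.noetherian _)).mpr hF

end Fin

end Groth.Agent.Lib.Helper6.GSR
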