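import Mathlib
import Groth.Prelude.Def_GrLC
import Groth.Prelude.Def_GrSyz
import Groth.Prelude.Def_Wider
import Groth.Prelude.Def_Rees
import Groth.Prelude.Def_ReesMod
import Groth.Agent.Lib.Helper9.GrLC.Trans
import Groth.Agent.Lib.Helper6.GSF.GSg
import Groth.Agent.Lib.Helper6.GSR.GRe

set_option autoImplicit false
set_option linter.unusedSectionVars false
set_option linter.unusedVariables false
set_option linter.unusedSimpArgs false
set_option linter.style.haveILetI false
set_option linter.overlappingInstances false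
set_option maxHeartbeats 800000
set_option synthInstance.maxHeartbeats 200000

/-!
# The Hilbert function of the associated graded module of a filtration
-/

universe u

namespace Groth.Agent.Lib.Helper6.GSR

open Groth.Agent.Helper9.GrLCLib Groth.Agent.Lib.Helper6.GSF
open scoped Polynomial

section Semi

/-- lengths agree along semilinear surjections with the same kernel -/
lemma length_eq_of_semilinear_surj {K₁ K₂ : Type*} [CommRing K₁] [CommRing K₂] (σ : K₁ →+* K₂)
    (hσ : Function.Surjective σ) {V W₁ W₂ : Type*} [AddCommGroup V] [Module K₁ V]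
    [AddCommGroup W₁] [Module K₁ W₁] [AddCommGroup W₂] [Module K₂ W₂]
    (g : V →ₗ[K₁] W₁) (hg : Function.Surjective g) (f : V →+ W₂) (hf : Function.Surjective f)
    (hsl : ∀ (c : K₁) (x : V), f (c • x) = σ c • f x) (hker : ∀ x, g x = 0 ↔ f x = 0) :
    Module.length K₁ W₁ = Module.length K₂ W₂ := by
  have hfg : ∀ x y : V, g x = g y → f x = f y := by
    intro x y hxy
    have h1 : g (x - y) = 0 := by rw [map_sub, hxy, sub_self]
    have h2 := (hker _).mp h1
    rw [map_sub, sub_eq_zero] at h2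
    exact h2
  have hh : ∀ x : V, f (Function.surjInv hg (g x)) = f x := fun x =>
    hfg _ _ (Function.surjInv_eq hg (g x))
  let h : W₁ →+ W₂ := AddMonoidHom.mk' (fun w => f (Function.surjInv hg w)) (by
    intro a b
    obtain ⟨x, rfl⟩ := hg a
    obtain ⟨y, rfl⟩ := hg b
    change f (Function.surjInv hg (g x + g y)) = f (Function.surjInv hg (g x)) +
      f (Function.surjInv hg (g y))
    rw [← map_add, hh, hh, hh, map_add])
  have hhg : ∀ x : V, h (g x) = f x := hh
  refine length_eq_of_semilinear σ hσ h ⟨?_, ?_⟩ ?_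
  · rw [injective_iff_map_eq_zero]
    intro w hw
    obtain ⟨x, rfl⟩ := hg w
    rw [hhg] at hw
    exact (hker x).mpr hw
  · intro y
    obtain ⟨x, rfl⟩ := hf y
    exact ⟨g x, hhg x⟩
  · intro c w
    obtain ⟨x, rfl⟩ := hg w
    rw [← map_smul, hhg, hhg, hsl]

end Semi

variable {A : Type u} [CommRing A] {I : Ideal A} {M : Type u} [AddCommGroup M] [Module A M]
  (F : I.Filtration M)

/-- the associated graded module `⊕ N_n/N_{n+1}` as a bundled graded module -/
noncomputable def fG : GrLC.GMod.{u} (rA I) := quotGMod (fX F) (fNX F) (fNX_isHomogeneous F)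

/-- the projection onto the associated graded module -/
noncomputable def fGmap : ↥F.submodule →ₗ[↥(reesAlgebra I)] (fG F).carrier :=
  quotMap (fX F) (fNX F) (fNX_isHomogeneous F)

lemma fGmap_eq_zero_iff (x : ↥F.submodule) : fGmap F x = 0 ↔ x ∈ fN F :=
  quotMap_eq_zero_iff (fX F) (fNX F) (fNX_isHomogeneous F) x

lemma mem_fG_gr (n : ℤ) (q : (fG F).carrier) :
    q ∈ (fG F).gr n ↔ ∃ x : ↥F.submodule, x ∈ fM F n ∧ fGmap F x = q := Iff.rfl

/-- the monomial `c Xⁿ` of the Rees module -/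
noncomputable def fmon (n : ℕ) (c : ↥(F.N n)) : ↥F.submodule :=
  ((Rees.mdegEquiv F n c : Rees.mdeg F n) : ↥F.submodule)

lemma fmon_coeff (n : ℕ) (c : ↥(F.N n)) (m : ℕ) :
    ((fmon F n c : ↥F.submodule) : PolynomialModule A M).coeff m = if n = m then (c : M) else 0 := by
  change (PolynomialModule.single A n (c : M)).coeff m = _
  rw [PolynomialModule.coeff_single, Finsupp.single_apply]

lemma fmon_mem (n : ℕ) (c : ↥(F.N n)) : fmon F n c ∈ fM F (n : ℤ) :=
  (Rees.mem_mdegZ_natCast_iff F n _).mpr (Rees.mdegEquiv F n c).2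

lemma fmon_add (n : ℕ) (c d : ↥(F.N n)) : fmon F n (c + d) = fmon F n c + fmon F n d := by
  unfold fmon
  rw [map_add]
  rfl

lemma fmon_smul (n : ℕ) (a : A) (c : ↥(F.N n)) :
    fmon F n (a • c) = algebraMap A ↥(reesAlgebra I) a • fmon F n c := by
  unfold fmon
  rw [Rees.mdegEquiv_smul, algebraMap_smul]

lemma eq_fmon_of_mem (n : ℕ) (x : ↥F.submodule) (hx : x ∈ fM F (n : ℤ)) :
    ∃ c : ↥(F.N n), fmon F n c = x := by
  have hx' : x ∈ Rees.mdeg F n := (Rees.mem_mdegZ_natCast_iff F n x).mp hx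
  refine ⟨(Rees.mdegEquiv F n).symm ⟨x, hx'⟩, ?_⟩
  unfold fmon
  rw [AddEquiv.apply_symm_apply]

lemma fmon_mem_fN_iff (n : ℕ) (c : ↥(F.N n)) : fmon F n c ∈ fN F ↔ (c : M) ∈ F.N (n + 1) := by
  rw [mem_fN_iff]
  constructor
  · intro h
    have := h n
    rw [fmon_coeff, if_pos rfl] at this
    exact this
  · intro h m
    rw [fmon_coeff]
    split_ifs with h'
    · subst h'
      exact h
    · exact zero_mem _

/-- the semilinear surjection `N_n → G_n` -/
noncomputable def fpsi (n : ℕ) : ↥(F.N n) →+ ↥(GrLC.comp (rA I) (fG F).gr (n : ℤ)) where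
  toFun c := ⟨fGmap F (fmon F n c), ⟨fmon F n c, fmon_mem F n c, rfl⟩⟩
  map_zero' := by
    apply Subtype.ext
    change fGmap F (fmon F n 0) = 0
    unfold fmon
    rw [map_zero]
    exact map_zero _
  map_add' c d := by
    apply Subtype.ext
    change fGmap F (fmon F n (c + d)) = fGmap F (fmon F n c) + fGmap F (fmon F n d)
    rw [fmon_add, map_add]

lemma fpsi_coe (n : ℕ) (c : ↥(F.N n)) :
    ((fpsi F n c : ↥(GrLC.comp (rA I) (fG F).gr (n : ℤ))) : (fG F).carrier) =
      fGmap F (fmon F n c) := rfl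

lemma fpsi_surjective (n : ℕ) : Function.Surjective (fpsi F n) := by
  rintro ⟨q, hq⟩
  obtain ⟨x, hx, rfl⟩ := (mem_fG_gr F (n : ℤ) q).mp hq
  obtain ⟨c, rfl⟩ := eq_fmon_of_mem F n x hx
  exact ⟨c, rfl⟩

lemma fpsi_eq_zero_iff (n : ℕ) (c : ↥(F.N n)) : fpsi F n c = 0 ↔ (c : M) ∈ F.N (n + 1) := by
  rw [← fmon_mem_fN_iff, ← fGmap_eq_zero_iff, ← fpsi_coe]
  exact Subtype.ext_iff

lemma fpsi_smul (n : ℕ) (a : A) (c : ↥(F.N n)) :
    fpsi F n (a • c) = rsigma I a • fpsi F n c := by
  apply Subtype.ext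
  change fGmap F (fmon F n (a • c)) = algebraMap A ↥(reesAlgebra I) a • fGmap F (fmon F n c)
  rw [fmon_smul, map_smul]

/-- the map `N_n → M / N_{n+1}` -/
noncomputable def fphi (n : ℕ) : ↥(F.N n) →ₗ[A] M ⧸ F.N (n + 1) :=
  (F.N (n + 1)).mkQ ∘ₗ (F.N n).subtype

lemma fphi_eq_zero_iff (n : ℕ) (c : ↥(F.N n)) : fphi F n c = 0 ↔ (c : M) ∈ F.N (n + 1) :=
  Submodule.Quotient.mk_eq_zero _

/-- the length of the degree `n` piece of the associated graded module -/
theorem length_comp_fG (n : ℕ) :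
    Module.length (GrLC.deg0 (rA I)) ↥(GrLC.comp (rA I) (fG F).gr (n : ℤ)) =
      Module.length A ↥(LinearMap.range (fphi F n)) := by
  symm
  refine length_eq_of_semilinear_surj (rsigma I) (rsigma_surjective I)
    (fphi F n).rangeRestrict (LinearMap.surjective_rangeRestrict _) (fpsi F n)
    (fpsi_surjective F n) (fpsi_smul F n) ?_
  intro c
  rw [fpsi_eq_zero_iff, ← fphi_eq_zero_iff]
  constructor
  · intro h
    exact congrArg Subtype.val h
  · intro h
    exact Subtype.ext h

/-- additivity: `ℓ(M/N_{n+1}) = ℓ(N_n/N_{n+1}) + ℓ(M/N_n)` -/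
theorem length_quot_succ (n : ℕ) :
    Module.length A (M ⧸ F.N (n + 1)) =
      Module.length A ↥(LinearMap.range (fphi F n)) + Module.length A (M ⧸ F.N n) := by
  have hle : F.N (n + 1) ≤ F.N n := F.antitone (Nat.le_succ n)
  refine Module.length_eq_add_of_exact (LinearMap.range (fphi F n)).subtype
    (Submodule.factor hle) (Submodule.injective_subtype _) (Submodule.factor_surjective hle) ?_
  intro q
  obtain ⟨m, rfl⟩ := Submodule.mkQ_surjective _ q
  rw [Submodule.factor_mk]
  constructor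
  · intro h
    have hm : m ∈ F.N n := (Submodule.Quotient.mk_eq_zero _).mp h
    exact ⟨⟨_, ⟨⟨m, hm⟩, rfl⟩⟩, rfl⟩
  · rintro ⟨⟨_, ⟨c, rfl⟩⟩, hc⟩
    have h1 : (F.N (n + 1)).mkQ (c : M) = (F.N (n + 1)).mkQ m := hc
    have h2 : (c : M) - m ∈ F.N (n + 1) := by
      rw [← Submodule.Quotient.mk_eq_zero, Submodule.Quotient.mk_sub]
      exact sub_eq_zero.mpr h1
    have h3 : m ∈ F.N n := by
      have := sub_mem c.2 (hle h2)
      rwa [sub_sub_cancel] at this
    exact (Submodule.Quotient.mk_eq_zero _).mpr h3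

end Groth.Agent.Lib.Helper6.GSR
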