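import Mathlib
import Groth.Prelude.Def_GrLC
import Groth.Prelude.Def_GrSyz
import Groth.Prelude.Def_Wider
import Groth.Prelude.Def_Rees
import Groth.Prelude.Def_ReesMod
import Groth.Agent.Lib.Helper9.GrLC.Trans
import Groth.Agent.Lib.Helper6.GSF.GSg
import Groth.Agent.Lib.Helper6.GSR.GRf

set_option autoImplicit false
set_option linter.unusedSectionVars false
set_option linter.unusedVariables false
set_option linter.unusedSimpArgs false
set_option linter.style.haveILetI false
set_option linter.overlappingInstances false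
set_option maxHeartbeats 1600000
set_option synthInstance.maxHeartbeats 200000
set_option maxSynthPendingDepth 3

/-!
# Finiteness and the recursion for the local cohomology of the Rees module of a filtration
-/

universe u

namespace Groth.Agent.Lib.Helper6.GSR

open CategoryTheory DirectSum Groth.Agent.Helper9.GrLCLib Groth.Agent.Helper8.LC
open Groth.Agent.Helper9.GrLCLib.Van Groth.Agent.Helper9.GrLCLib.VanZ
open Groth.Agent.Helper9.GrLCLib.Fg Groth.Agent.Helper9.GrLCLib.FinZ
open Groth.Agent.Lib.Helper6.GSF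
open scoped Polynomial

variable {A : Type u} [CommRing A] [IsNoetherianRing A] {I : Ideal A}
  {M : Type u} [AddCommGroup M] [Module A M] (F : I.Filtration M)

/-- the carrier of the bundled Rees module is the Rees module -/
noncomputable def fXout : (fX F).carrier →ₗ[↥(reesAlgebra I)] ↥F.submodule := LinearMap.id

/-- the Rees module is the carrier of the bundled Rees module -/
noncomputable def fXin : ↥F.submodule →ₗ[↥(reesAlgebra I)] (fX F).carrier := LinearMap.id

/-- the bundled submodule `⊕ N_{n+1} Xⁿ` -/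
noncomputable abbrev fY : GrLC.GMod.{u} (rA I) := subGMod (fX F) (fNX F) (fNX_isHomogeneous F)

/-- from the bundled submodule to the submodule -/
noncomputable def fYout : (fY F).carrier →ₗ[↥(reesAlgebra I)] ↥(fN F) :=
  LinearMap.codRestrict (fN F) (fXout F ∘ₗ subMap (fX F) (fNX F) (fNX_isHomogeneous F))
    (subMap_mem (fX F) (fNX F) (fNX_isHomogeneous F))

/-- from the submodule to the bundled submodule -/
noncomputable def fYin : ↥(fN F) →ₗ[↥(reesAlgebra I)] (fY F).carrier :=
  subLift (fX F) (fNX F) (fNX_isHomogeneous F) (fXin F ∘ₗ (fN F).subtype)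
    (fun y : ↥(fN F) => y.2)

lemma fYout_fYin (y : ↥(fN F)) : fYout F (fYin F y) = y := rfl

lemma fYout_coe (x : (fY F).carrier) :
    ((fYout F x : ↥(fN F)) : ↥F.submodule) =
      fXout F (subMap (fX F) (fNX F) (fNX_isHomogeneous F) x) := rfl

/-- multiplication by the variable, typed between the bundled graded modules -/
noncomputable def fmuX :
    (shiftGMod (fY F) 1).carrier →ₗ[↥(reesAlgebra I)] (fX F).carrier :=
  fmu F ∘ₗ fYout F ∘ₗ Van.shiftOut (rA I) (fY F) 1

lemma fmuX_apply (x : (shiftGMod (fY F) 1).carrier) :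
    fmuX F x = fmu F (fYout F (Van.shiftOut (rA I) (fY F) 1 x)) := rfl

lemma fmuX_in (y : ↥(fN F)) :
    fmuX F (Van.shiftIn (rA I) (fY F) 1 (fYin F y)) = fmu F y := rfl

lemma isGrHom_fmuX : GrLC.IsGrHom (shiftGMod (fY F) 1).gr (fX F).gr (fmuX F) := by
  intro k x hx
  have h0 : Van.shiftOut (rA I) (fY F) 1 x ∈ (fY F).gr (k - 1) := hx
  have h1 : subMap (fX F) (fNX F) (fNX_isHomogeneous F) (Van.shiftOut (rA I) (fY F) 1 x) ∈
      (fX F).gr (k - 1) :=
    (mem_subGMod_gr (fX F) (fNX F) (fNX_isHomogeneous F) (k - 1) _).mp h0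
  rw [fmuX_apply]
  exact fmu_mem_fM F k (fYout F (Van.shiftOut (rA I) (fY F) 1 x)) h1

lemma fmuX_injective : Function.Injective (fmuX F) := by
  intro x y hxy
  rw [fmuX_apply, fmuX_apply] at hxy
  have h1 := fmu_injective F hxy
  have h2 : subMap (fX F) (fNX F) (fNX_isHomogeneous F) (Van.shiftOut (rA I) (fY F) 1 x) =
      subMap (fX F) (fNX F) (fNX_isHomogeneous F) (Van.shiftOut (rA I) (fY F) 1 y) :=
    congrArg (fun z : ↥(fN F) => (z : ↥F.submodule)) h1
  exact subMap_injective (fX F) (fNX F) (fNX_isHomogeneous F) h2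

lemma mem_range_fmuX (z : ↥F.submodule) (hz : z ∈ LinearMap.range (fmu F)) :
    (z : (fX F).carrier) ∈ LinearMap.range (fmuX F) := by
  obtain ⟨y, rfl⟩ := hz
  exact ⟨Van.shiftIn (rA I) (fY F) 1 (fYin F y), fmuX_in F y⟩

lemma smul_mem_range_fmuX (r : ↥(reesAlgebra I)) (hr : r ∈ (rIrr I).toIdeal)
    (x : (fX F).carrier) : r • x ∈ LinearMap.range (fmuX F) :=
  mem_range_fmuX F _ (smul_mem_range_fmu F r hr (fXout F x))

lemma mem_range_fmuX_of_mem (k : ℤ) (hk : k ≠ 0) (x : (fX F).carrier) (hx : x ∈ (fX F).gr k) :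
    x ∈ LinearMap.range (fmuX F) :=
  mem_range_fmuX F _ (mem_range_fmu_of_mem F k hk (fXout F x) hx)

lemma smul_mem_fNX (r : ↥(reesAlgebra I)) (hr : r ∈ rJ I) (x : (fX F).carrier) :
    r • x ∈ fNX F := smul_mem_fN F r hr (fXout F x)

section Thm

variable [hXfin : Module.Finite ↥(reesAlgebra I) (fX F).carrier] (hJ : KillFin (rA I) (rJ I))
  (D : ℕ) (hcd : LocCoh.CdLE ↥(reesAlgebra I) (rIrr I).toIdeal D)

include hJ hcd in
/-- the pieces of the local cohomology of the Rees module in non-negative degrees have finite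
length -/
theorem isFiniteLength_LCcomp_fX (k : ℤ) (hk : 0 ≤ k) (i : ℕ) :
    IsFiniteLength (GrLC.deg0 (rA I)) (LCcomp (rA I) (fX F).gr (rIrr I).toIdeal i k) :=
  isFiniteLength_LCcomp_filt (rA I) (rJ I) hJ (rIrr I) (rIrr_toIdeal I) D hcd (fX F)
    (fNX F) (fNX_isHomogeneous F) (fmuX F) (isGrHom_fmuX F) (fmuX_injective F)
    (smul_mem_range_fmuX F) (mem_range_fmuX_of_mem F) (smul_mem_fNX F) k hk i

include hJ hcd in
/-- the recursion for the Euler characteristics -/
theorem lsum_fX (k : ℤ) (hk : 0 ≤ k) :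
    lsum (rA I) (rIrr I) D (fX F) k =
      lsum (rA I) (rIrr I) D (fX F) (k + 1) + lsum (rA I) (rIrr I) D (fG F) k :=
  lsum_filt (rA I) (rJ I) hJ (rIrr I) (rIrr_toIdeal I) D hcd (fX F)
    (fNX F) (fNX_isHomogeneous F) (fmuX F) (isGrHom_fmuX F) (fmuX_injective F)
    (smul_mem_range_fmuX F) (mem_range_fmuX_of_mem F) (smul_mem_fNX F) k hk

lemma finite_fG : Module.Finite ↥(reesAlgebra I) (fG F).carrier :=
  finite_quot (rA I) (fX F) (fNX F) (fNX_isHomogeneous F)

lemma kill_fG : Kill (rA I) (rJ I) (fG F) :=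
  kill_quot (rA I) (rJ I) (fX F) (fNX F) (fNX_isHomogeneous F) (smul_mem_fNX F)

end Thm

section Res

/-- the pieces computed from a *injective resolution of the Rees module are isomorphic to the
intrinsic pieces of the bundled Rees module -/
lemma nonempty_equiv_Hcomp_fX (E' : GrLC.StarInjRes (rA I) (fM F)) (i : ℕ) (n : ℤ) :
    Nonempty (E'.Hcomp (rIrr I) i n ≃ₗ[GrLC.deg0 (rA I)]
      LCcomp (rA I) (fX F).gr (rIrr I).toIdeal i n) :=
  nonempty_equiv_Hcomp (rA I) (fM F) E' (rIrr I) i n

end Res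

end Groth.Agent.Lib.Helper6.GSR
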