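import Mathlib
import Groth.Prelude.Def_GrLC
import Groth.Prelude.Def_GrSyz
import Groth.Prelude.Def_Wider
import Groth.Prelude.Def_Rees
import Groth.Prelude.Def_ReesMod
import Groth.Agent.Lib.Helper9.GrLC.Trans
import Groth.Agent.Lib.Helper6.GSF.GSg
import Groth.Agent.Lib.Helper6.GSR.GRh

set_option autoImplicit false
set_option linter.unusedSectionVars false
set_option linter.unusedVariables false
set_option linter.unusedSimpArgs false
set_option linter.style.haveILetI false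
set_option linter.overlappingInstances false
set_option maxHeartbeats 1600000
set_option synthInstance.maxHeartbeats 200000
set_option maxSynthPendingDepth 3

/-!
# The Grothendieck–Serre formula for the Rees module of an `m`-primary ideal
-/

universe u

namespace Groth.Agent.Lib.Helper6.GSR

open CategoryTheory DirectSum Groth.Agent.Helper9.GrLCLib Groth.Agent.Helper8.LC
open Groth.Agent.Helper9.GrLCLib.Van Groth.Agent.Helper9.GrLCLib.VanZ
open Groth.Agent.Helper9.GrLCLib.Fg Groth.Agent.Helper9.GrLCLib.FinZ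
open Groth.Agent.Lib.Helper6.GSF
open scoped Polynomial

section Van

variable {R : Type u} [CommRing R] [IsNoetherianRing R] (𝒜 : ℤ → AddSubgroup R) [GradedRing 𝒜]

/-- the Euler characteristic of local cohomology vanishes in high degrees -/
lemma exists_lsum_eq_zero (a : HomogeneousIdeal 𝒜)
    (ha : a.toIdeal = Ideal.span (⋃ n ∈ Set.Ioi (0 : ℤ), (𝒜 n : Set R)))
    (D : ℕ) (X : GrLC.GMod.{u} 𝒜) [Module.Finite R X.carrier] :
    ∃ B : ℤ, ∀ k, B ≤ k → lsum 𝒜 a D X k = 0 := by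
  classical
  have hvan : ∀ i : ℕ, ∃ s : ℤ, ∀ k, s ≤ k → LCgr 𝒜 X.gr a.toIdeal i k = ⊥ :=
    fun i => vanP 𝒜 a ha i X
  choose sv hsv using hvan
  obtain ⟨B, hB⟩ := Finset.exists_le ((Finset.range (D + 1)).image sv)
  refine ⟨B, fun k hk => ?_⟩
  unfold GSF.lsum
  apply Finset.sum_eq_zero
  intro i hi
  have h1 : sv i ≤ k := le_trans (hB (sv i) (Finset.mem_image_of_mem _ hi)) hk
  haveI := subsingleton_LCcomp_of_eq_bot 𝒜 X a i k (hsv i k h1)
  have h3 : hl 𝒜 a X i k = 0 := ilen_eq_zero_of_subsingleton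
  rw [h3, mul_zero]

end Van

section Arith

lemma final_arith (D : ℕ) (ℓ : ℕ → ℕ) (L : ℕ → ℤ) (hlen : ∀ i, (ℓ i : ℤ) = L i)
    (hbig : ∀ i, D < i → ℓ i = 0) (S : ℤ)
    (hS : S = ∑ i ∈ Finset.range (D + 1), (-1 : ℤ) ^ i * L i) (x : ℚ) (hx : (S : ℚ) = x) :
    x = finsum (fun i : ℕ => (-1 : ℚ) ^ i * (ℓ i : ℚ)) := by
  have hsupp : (Function.support fun i : ℕ => (-1 : ℚ) ^ i * (ℓ i : ℚ)) ⊆
      ↑(Finset.range (D + 1)) := by
    intro i hi
    rw [Finset.mem_coe, Finset.mem_range]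
    by_contra hlt
    apply hi
    change (-1 : ℚ) ^ i * (ℓ i : ℚ) = 0
    rw [hbig i (by omega)]
    simp
  rw [finsum_eq_sum_of_support_subset _ hsupp, ← hx, hS, Int.cast_sum]
  apply Finset.sum_congr rfl
  intro i _
  rw [← hlen i]
  push_cast
  rfl

end Arith

section Transfer

variable {R : Type u} [CommRing R] {σ : Type u} [SetLike σ R] [AddSubgroupClass σ R]
  (𝒜 : ℤ → σ) [GradedRing 𝒜]
variable {M : Type u} [AddCommGroup M] [Module R M] {τ : Type u} [SetLike τ M]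
  [AddSubgroupClass τ M] (ℳ : ℤ → τ) [DirectSum.Decomposition ℳ] [SetLike.GradedSMul 𝒜 ℳ]
variable (E : GrLC.StarInjRes 𝒜 ℳ) (a : HomogeneousIdeal 𝒜) (i : ℕ) (g : ℤ)

lemma isFiniteLength_Hcomp_ofAG
    (h : IsFiniteLength (GrLC.deg0 (Trans.toAG 𝒜))
      ((Trans.resToAG 𝒜 ℳ E).Hcomp (Trans.idealToAG 𝒜 a) i g)) :
    IsFiniteLength (GrLC.deg0 𝒜) (E.Hcomp a i g) := h

lemma length_Hcomp_ofAG :
    Module.length (GrLC.deg0 𝒜) (E.Hcomp a i g) =
      Module.length (GrLC.deg0 (Trans.toAG 𝒜))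
        ((Trans.resToAG 𝒜 ℳ E).Hcomp (Trans.idealToAG 𝒜 a) i g) := rfl

lemma Hcomp_eq_bot_ofAG
    (h : Subsingleton ((Trans.resToAG 𝒜 ℳ E).Hcomp (Trans.idealToAG 𝒜 a) i g)) :
    E.Hcomp a i g = ⊥ := by
  rw [Trans.hcomp_eq_bot_iff, Submodule.eq_bot_iff]
  intro x hx
  exact congrArg Subtype.val (Subsingleton.elim
    (⟨x, hx⟩ : ((Trans.resToAG 𝒜 ℳ E).Hcomp (Trans.idealToAG 𝒜 a) i g)) 0)

end Transfer

section Main

variable (A : Type u) [CommRing A] [IsNoetherianRing A] [IsLocalRing A] (I : Ideal A)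
  (hI : I.radical = IsLocalRing.maximalIdeal A)
  (M : Type u) [AddCommGroup M] [Module A M] [Module.Finite A M]

/-- the Hilbert–Samuel function -/
noncomputable def hsam (k : ℕ) : ℕ :=
  (Module.length A (M ⧸ (I ^ k • (⊤ : Submodule A M)))).toNat

include hI in
lemma isFiniteLength_quot_pow (k : ℕ) :
    IsFiniteLength A (M ⧸ (I ^ k • (⊤ : Submodule A M))) := by
  apply isFiniteLength_of_kill_pow I hI k
  intro c hc x
  obtain ⟨m, rfl⟩ := Submodule.mkQ_surjective _ x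
  rw [← map_smul]
  exact (Submodule.Quotient.mk_eq_zero _).mpr (Submodule.smul_mem_smul hc Submodule.mem_top)

include hI in
/-- the Hilbert function of the associated graded module is the difference of the
Hilbert–Samuel function -/
lemma hsam_succ (k : ℕ) :
    (hsam A I M (k + 1) : ℤ) = hf (rA I) (fG (Rees.powFilt I M)) (k : ℤ) + hsam A I M k := by
  have h1 := length_quot_succ (Rees.powFilt I M) k
  have h2 := length_comp_fG (Rees.powFilt I M) k
  have ha : Module.length A (M ⧸ (I ^ (k + 1) • (⊤ : Submodule A M))) ≠ ⊤ :=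
    Module.length_ne_top_iff.mpr (isFiniteLength_quot_pow A I hI M (k + 1))
  have hc : Module.length A (M ⧸ (I ^ k • (⊤ : Submodule A M))) ≠ ⊤ :=
    Module.length_ne_top_iff.mpr (isFiniteLength_quot_pow A I hI M k)
  have h1' : Module.length A (M ⧸ (I ^ (k + 1) • (⊤ : Submodule A M))) =
      Module.length A ↥(LinearMap.range (fphi (Rees.powFilt I M) k)) +
        Module.length A (M ⧸ (I ^ k • (⊤ : Submodule A M))) := h1
  have hb : Module.length A ↥(LinearMap.range (fphi (Rees.powFilt I M) k)) ≠ ⊤ := by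
    intro hb
    apply ha
    rw [h1', hb, top_add]
  unfold hsam hf ilen
  rw [h2, h1', ENat.toNat_add hb hc]
  push_cast
  ring

include hI in
theorem main_16057 (P : Polynomial ℚ)
    (hP : ∃ N : ℕ, ∀ n : ℕ, N ≤ n →
      P.eval (n : ℚ) = ((Module.length A (M ⧸ (I ^ n • (⊤ : Submodule A M)))).toNat : ℚ))
    (E : GrLC.StarInjRes (Rees.degZ (reesAlgebra I)) (Rees.mdegZ (Rees.powFilt I M))) (n : ℕ) :
    (∀ i : ℕ, IsFiniteLength (GrLC.deg0 (Rees.degZ (reesAlgebra I)))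
        (E.Hcomp (GrSyz.irrel (Rees.degZ (reesAlgebra I))) i (n : ℤ))) ∧
      Set.Finite {i : ℕ | E.Hcomp (GrSyz.irrel (Rees.degZ (reesAlgebra I))) i (n : ℤ) ≠ ⊥} ∧
      P.eval (n : ℚ) - ((Module.length A (M ⧸ (I ^ n • (⊤ : Submodule A M)))).toNat : ℚ) =
        finsum (fun i : ℕ => (-1 : ℚ) ^ i *
          ((Module.length (GrLC.deg0 (Rees.degZ (reesAlgebra I)))
            (E.Hcomp (GrSyz.irrel (Rees.degZ (reesAlgebra I))) i (n : ℤ))).toNat : ℚ)) := by
  classical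
  -- the data
  have hJ : KillFin (rA I) (rJ I) := killFin_rJ I hI
  have ha := rIrr_toIdeal I
  have hstd := rIrr_std I
  obtain ⟨D, hcd⟩ := exists_cdLE I
  haveI hXfin : Module.Finite ↥(reesAlgebra I) (fX (Rees.powFilt I M)).carrier :=
    finite_fX (Rees.powFilt I M) (Ideal.stableFiltration_stable I ⊤)
  -- finiteness and recursion
  have hfin : ∀ (k : ℤ), 0 ≤ k → ∀ i, IsFiniteLength (GrLC.deg0 (rA I))
      (LCcomp (rA I) (fX (Rees.powFilt I M)).gr (rIrr I).toIdeal i k) := fun k hk i =>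
    isFiniteLength_LCcomp_fX (Rees.powFilt I M) hJ D hcd k hk i
  have hrec : ∀ k : ℤ, 0 ≤ k → lsum (rA I) (rIrr I) D (fX (Rees.powFilt I M)) k =
      lsum (rA I) (rIrr I) D (fX (Rees.powFilt I M)) (k + 1) +
        lsum (rA I) (rIrr I) D (fG (Rees.powFilt I M)) k := fun k hk =>
    lsum_fX (Rees.powFilt I M) hJ D hcd k hk
  -- the formula for the associated graded module
  haveI hGfin : Module.Finite ↥(reesAlgebra I) (fG (Rees.powFilt I M)).carrier :=
    finite_fG (Rees.powFilt I M)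
  have hkG : Kill (rA I) (rJ I) (fG (Rees.powFilt I M)) := kill_fG (Rees.powFilt I M)
  obtain ⟨N₀, hN₀⟩ := hP
  have hN₀' : ∀ k : ℕ, N₀ ≤ k → P.eval (k : ℚ) = (hsam A I M k : ℚ) := hN₀
  have hhs : ∀ k : ℕ, (hf (rA I) (fG (Rees.powFilt I M)) (k : ℤ) : ℚ) =
      (hsam A I M (k + 1) : ℚ) - (hsam A I M k : ℚ) := by
    intro k
    have := hsam_succ A I hI M k
    have h2 : ((hsam A I M (k + 1) : ℤ) : ℚ) =
        ((hf (rA I) (fG (Rees.powFilt I M)) (k : ℤ) + hsam A I M k : ℤ) : ℚ) := by rw [this]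
    push_cast at h2
    linarith
  set PG : ℚ[X] := P.comp (Polynomial.X + 1) - P with hPG
  have hPGe : ∀ q : ℚ, PG.eval q = P.eval (q + 1) - P.eval q := by
    intro q
    rw [hPG, Polynomial.eval_sub, Polynomial.eval_comp, Polynomial.eval_add, Polynomial.eval_X,
      Polynomial.eval_one]
  have hP' : ∃ N : ℤ, ∀ k : ℤ, N ≤ k → PG.eval (k : ℚ) =
      (hf (rA I) (fG (Rees.powFilt I M)) k : ℚ) := by
    refine ⟨(N₀ : ℤ), fun k hk => ?_⟩
    obtain ⟨m, rfl⟩ : ∃ m : ℕ, k = (m : ℤ) := ⟨k.toNat, by omega⟩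
    have hm : N₀ ≤ m := by exact_mod_cast hk
    rw [hPGe, hhs m, Int.cast_natCast]
    have e1 := hN₀' (m + 1) (by omega)
    have e2 := hN₀' m hm
    push_cast at e1
    rw [e1, e2]
  have key := gs_formula' (rA I) (rJ I) hJ (rIrr I) ha hstd D hcd (fG (Rees.powFilt I M)) hkG PG hP'
  -- the induction
  let g : ℕ → ℚ := fun k =>
    (lsum (rA I) (rIrr I) D (fX (Rees.powFilt I M)) (k : ℤ) : ℚ) -
      (P.eval (k : ℚ) - (hsam A I M k : ℚ))
  have hstep : ∀ k : ℕ, g k = g (k + 1) := by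
    intro k
    have h1 := hrec (k : ℤ) (by omega)
    have h2 := key (k : ℤ)
    rw [hPGe, hhs k, Int.cast_natCast] at h2
    have h1' : (lsum (rA I) (rIrr I) D (fX (Rees.powFilt I M)) (k : ℤ) : ℚ) =
        (lsum (rA I) (rIrr I) D (fX (Rees.powFilt I M)) ((k : ℤ) + 1) : ℚ) +
          (lsum (rA I) (rIrr I) D (fG (Rees.powFilt I M)) (k : ℤ) : ℚ) := by
      rw [h1]
      push_cast
      ring
    change (lsum (rA I) (rIrr I) D (fX (Rees.powFilt I M)) (k : ℤ) : ℚ) -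
        (P.eval (k : ℚ) - (hsam A I M k : ℚ)) =
      (lsum (rA I) (rIrr I) D (fX (Rees.powFilt I M)) ((k + 1 : ℕ) : ℤ) : ℚ) -
        (P.eval ((k + 1 : ℕ) : ℚ) - (hsam A I M (k + 1) : ℚ))
    push_cast
    linarith
  obtain ⟨B, hB⟩ := exists_lsum_eq_zero (rA I) (rIrr I) ha D (fX (Rees.powFilt I M))
  have hzero : ∀ k : ℕ, B ≤ (k : ℤ) → N₀ ≤ k → g k = 0 := by
    intro k hk1 hk2
    change (lsum (rA I) (rIrr I) D (fX (Rees.powFilt I M)) (k : ℤ) : ℚ) -
        (P.eval (k : ℚ) - (hsam A I M k : ℚ)) = 0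
    rw [hB (k : ℤ) hk1, hN₀' k hk2]
    simp
  have hall : ∀ (m k : ℕ), B ≤ ((k + m : ℕ) : ℤ) → N₀ ≤ k + m → g k = 0 := by
    intro m
    induction m with
    | zero => intro k h1 h2; exact hzero k (by simpa using h1) (by simpa using h2)
    | succ m ih =>
      intro k h1 h2
      rw [hstep k]
      apply ih (k + 1)
      · have : k + 1 + m = k + (m + 1) := by ring
        rw [this]
        exact h1
      · omega
  have hgn : g n = 0 := by
    obtain ⟨m, hm1, hm2⟩ : ∃ m : ℕ, B ≤ ((n + m : ℕ) : ℤ) ∧ N₀ ≤ n + m :=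
      ⟨(B - n).toNat + N₀, by push_cast; omega, by omega⟩
    exact hall m n hm1 hm2
  -- comparison with the *injective resolution
  have hequiv : ∀ i : ℕ, Nonempty
      ((Trans.resToAG (Rees.degZ (reesAlgebra I)) (Rees.mdegZ (Rees.powFilt I M)) E).Hcomp
        (rIrr I) i (n : ℤ) ≃ₗ[GrLC.deg0 (rA I)]
        LCcomp (rA I) (fX (Rees.powFilt I M)).gr (rIrr I).toIdeal i (n : ℤ)) := fun i =>
    nonempty_equiv_Hcomp_fX (Rees.powFilt I M)
      (Trans.resToAG (Rees.degZ (reesAlgebra I)) (Rees.mdegZ (Rees.powFilt I M)) E) i (n : ℤ)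
  have hfinH : ∀ i : ℕ, IsFiniteLength (GrLC.deg0 (Rees.degZ (reesAlgebra I)))
      (E.Hcomp (GrSyz.irrel (Rees.degZ (reesAlgebra I))) i (n : ℤ)) := by
    intro i
    obtain ⟨e⟩ := hequiv i
    exact isFiniteLength_Hcomp_ofAG _ _ E _ i (n : ℤ)
      (IsFiniteLength.of_surjective (hfin (n : ℤ) (by omega) i) e.symm.surjective)
  have hlen : ∀ i : ℕ, ((Module.length (GrLC.deg0 (Rees.degZ (reesAlgebra I)))
      (E.Hcomp (GrSyz.irrel (Rees.degZ (reesAlgebra I))) i (n : ℤ))).toNat : ℤ) =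
      hl (rA I) (rIrr I) (fX (Rees.powFilt I M)) i (n : ℤ) := by
    intro i
    obtain ⟨e⟩ := hequiv i
    rw [length_Hcomp_ofAG]
    exact ilen_eq_of_equiv e
  have hbig : ∀ i : ℕ, D < i →
      E.Hcomp (GrSyz.irrel (Rees.degZ (reesAlgebra I))) i (n : ℤ) = ⊥ := by
    intro i hi
    obtain ⟨e⟩ := hequiv i
    haveI : Subsingleton (LCcomp (rA I) (fX (Rees.powFilt I M)).gr (rIrr I).toIdeal i (n : ℤ)) :=
      subsingleton_LCcomp_of_subsingleton (rA I) (fX (Rees.powFilt I M)) (rIrr I) i (n : ℤ)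
        (hcd (fX (Rees.powFilt I M)).carrier i hi)
    exact Hcomp_eq_bot_ofAG _ _ E _ i (n : ℤ) e.toEquiv.subsingleton
  refine ⟨hfinH, ?_, ?_⟩
  · apply Set.Finite.subset (Finset.range (D + 1)).finite_toSet
    intro i hi
    rw [Finset.mem_coe, Finset.mem_range]
    by_contra hlt
    exact hi (hbig i (by omega))
  · have hg' : (lsum (rA I) (rIrr I) D (fX (Rees.powFilt I M)) (n : ℤ) : ℚ) =
        P.eval (n : ℚ) - (hsam A I M n : ℚ) := by
      have : (lsum (rA I) (rIrr I) D (fX (Rees.powFilt I M)) (n : ℤ) : ℚ) -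
        (P.eval (n : ℚ) - (hsam A I M n : ℚ)) = 0 := hgn
      linarith
    have hbig' : ∀ i : ℕ, D < i → (Module.length (GrLC.deg0 (Rees.degZ (reesAlgebra I)))
        (E.Hcomp (GrSyz.irrel (Rees.degZ (reesAlgebra I))) i (n : ℤ))).toNat = 0 := by
      intro i hi
      rw [hbig i hi, Module.length_bot]
      rfl
    exact final_arith D
      (fun i => (Module.length (GrLC.deg0 (Rees.degZ (reesAlgebra I)))
        (E.Hcomp (GrSyz.irrel (Rees.degZ (reesAlgebra I))) i (n : ℤ))).toNat)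
      (fun i => hl (rA I) (rIrr I) (fX (Rees.powFilt I M)) i (n : ℤ)) hlen hbig'
      (lsum (rA I) (rIrr I) D (fX (Rees.powFilt I M)) (n : ℤ)) rfl _ hg'

end Main

end Groth.Agent.Lib.Helper6.GSR
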